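import Mathlib

set_option autoImplicit false

namespace Cfsg.Agent.Lib.Helper59

open MulAction

/-- Burnside's lemma stated with `Nat.card`. -/
theorem burnside_natCard (G X : Type*) [Group G] [MulAction G X] [Fintype G] [Finite X] :
    ∑ g : G, Nat.card (fixedBy X g) = Nat.card (orbitRel.Quotient G X) * Nat.card G := by
  classical
  have : Fintype X := Fintype.ofFinite X
  have : ∀ g : G, Fintype (fixedBy X g) := fun g => Fintype.ofFinite _
  have : Fintype (orbitRel.Quotient G X) := Fintype.ofFinite _
  have h := MulAction.sum_card_fixedBy_eq_card_orbits_mul_card_group G X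
  simp only [Nat.card_eq_fintype_card]
  convert h

/-- The subgroup generated by the derangements. -/
abbrev derSub (G Ω : Type*) [Group G] [MulAction G Ω] : Subgroup G :=
  Subgroup.closure {g : G | ∀ ω : Ω, g • ω ≠ ω}

theorem derSub_normal (G Ω : Type*) [Group G] [MulAction G Ω] : (derSub G Ω).Normal := by
  have h : derSub G Ω = Subgroup.normalClosure {g : G | ∀ ω : Ω, g • ω ≠ ω} := by
    apply le_antisymm
    · exact Subgroup.closure_le_normalClosure
    · rw [Subgroup.normalClosure]
      apply Subgroup.closure_mono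
      intro x hx
      rw [Group.mem_conjugatesOfSet_iff] at hx
      obtain ⟨a, ha, hax⟩ := hx
      rw [isConj_iff] at hax
      obtain ⟨c, rfl⟩ := hax
      intro ω hω
      apply ha (c⁻¹ • ω)
      have := congrArg (fun y => c⁻¹ • y) hω
      simpa [mul_smul] using this
  rw [h]
  exact Subgroup.normalClosure_normal

/-- Sum over a subgroup as a filtered sum. -/
theorem sum_subgroup_eq {G : Type*} [Group G] [Fintype G] (D : Subgroup G) [Fintype D]
    [DecidablePred (· ∈ D)] (f : G → ℕ) :
    ∑ d : D, f (d : G) = ∑ g ∈ Finset.univ.filter (· ∈ D), f g := by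
  exact (Finset.sum_subtype (Finset.univ.filter (· ∈ D)) (p := (· ∈ D)) (by simp) f).symm

/-- Main counting lemma: the derangement subgroup of a transitive group is transitive and
every element outside it has exactly one fixed point. -/
theorem der_main (G Ω : Type*) [Group G] [Finite G] [MulAction G Ω] [Finite Ω]
    [IsPretransitive G Ω] :
    IsPretransitive (derSub G Ω) Ω ∧ ∀ g : G, g ∉ derSub G Ω → Nat.card (fixedBy Ω g) = 1 := by
  classical
  rcases isEmpty_or_nonempty Ω with hΩ | hΩ
  · refine ⟨⟨fun x => isEmptyElim x⟩, fun g hg => ?_⟩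
    exfalso; apply hg
    apply Subgroup.subset_closure
    intro ω; exact isEmptyElim ω
  have : Fintype G := Fintype.ofFinite G
  set D := derSub G Ω with hD
  have : Fintype D := Fintype.ofFinite D
  -- Burnside for G
  have hG : ∑ g : G, Nat.card (fixedBy Ω g) = Nat.card G := by
    rw [burnside_natCard]
    have h1 : Nat.card (orbitRel.Quotient G Ω) = 1 := by
      have := (pretransitive_iff_unique_quotient_of_nonempty G Ω).mp inferInstance
      obtain ⟨u⟩ := this
      exact Nat.card_unique
    rw [h1, one_mul]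
  -- Burnside for D
  have hDsum : ∑ g ∈ Finset.univ.filter (· ∈ D), Nat.card (fixedBy Ω g)
      = Nat.card (orbitRel.Quotient D Ω) * Nat.card D := by
    rw [← burnside_natCard D Ω]
    exact (sum_subgroup_eq D (fun g => Nat.card (fixedBy Ω g))).symm
  have hsplit : ∑ g : G, Nat.card (fixedBy Ω g)
      = ∑ g ∈ Finset.univ.filter (· ∈ D), Nat.card (fixedBy Ω g)
        + ∑ g ∈ Finset.univ.filter (fun g => ¬ g ∈ D), Nat.card (fixedBy Ω g) :=
    (Finset.sum_filter_add_sum_filter_not _ _ _).symm
  have hge : ∀ g ∈ Finset.univ.filter (fun g => ¬ g ∈ D), 1 ≤ Nat.card (fixedBy Ω g) := by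
    intro g hg
    rw [Finset.mem_filter] at hg
    have h2 : ¬ (∀ ω : Ω, g • ω ≠ ω) := fun h => hg.2 (Subgroup.subset_closure h)
    rw [not_forall] at h2
    obtain ⟨ω, hω⟩ := h2
    rw [not_not] at hω
    have : Nonempty (fixedBy Ω g) := ⟨⟨ω, hω⟩⟩
    exact Nat.card_pos
  have hcard : (Finset.univ.filter (· ∈ D)).card + (Finset.univ.filter (fun g => ¬ g ∈ D)).card
      = Nat.card G := by
    rw [Finset.card_filter_add_card_filter_not, Finset.card_univ, Nat.card_eq_fintype_card]
  have hDcard : (Finset.univ.filter (· ∈ D)).card = Nat.card D := by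
    have := sum_subgroup_eq D (fun _ => 1)
    simp only [Finset.sum_const, Finset.card_univ, smul_eq_mul, mul_one] at this
    rw [← this, Nat.card_eq_fintype_card]
  have hsum_ge : (Finset.univ.filter (fun g => ¬ g ∈ D)).card
      ≤ ∑ g ∈ Finset.univ.filter (fun g => ¬ g ∈ D), Nat.card (fixedBy Ω g) := by
    rw [Finset.card_eq_sum_ones]
    exact Finset.sum_le_sum hge
  have hm : 0 < Nat.card D := Nat.card_pos
  have : Nonempty (orbitRel.Quotient D Ω) := ⟨Quotient.mk'' (Classical.arbitrary Ω)⟩
  have ho1 : 0 < Nat.card (orbitRel.Quotient D Ω) := Nat.card_pos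
  have ho : Nat.card (orbitRel.Quotient D Ω) ≤ 1 := by
    by_contra hcon
    rw [not_le] at hcon
    have : 2 * Nat.card D ≤ Nat.card (orbitRel.Quotient D Ω) * Nat.card D :=
      Nat.mul_le_mul_right _ hcon
    omega
  have ho' : Nat.card (orbitRel.Quotient D Ω) = 1 := le_antisymm ho ho1
  refine ⟨?_, ?_⟩
  · rw [pretransitive_iff_subsingleton_quotient]
    exact Finite.card_le_one_iff_subsingleton.mp ho
  · intro g hg
    rw [ho', one_mul] at hDsum
    have hz : ∑ g ∈ Finset.univ.filter (fun g => ¬ g ∈ D), (Nat.card (fixedBy Ω g) - 1) = 0 := by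
      have h3 : ∑ g ∈ Finset.univ.filter (fun g => ¬ g ∈ D), Nat.card (fixedBy Ω g)
          = ∑ g ∈ Finset.univ.filter (fun g => ¬ g ∈ D), (Nat.card (fixedBy Ω g) - 1)
            + (Finset.univ.filter (fun g => ¬ g ∈ D)).card := by
        rw [Finset.card_eq_sum_ones, ← Finset.sum_add_distrib]
        apply Finset.sum_congr rfl
        intro x hx
        have := hge x hx
        omega
      omega
    rw [Finset.sum_eq_zero_iff] at hz
    have h4 := hz g (by simp [hg])
    have h5 := hge g (by simp [hg])
    omega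

theorem card_fixedBy_prod (G Ω : Type*) [Group G] [MulAction G Ω] (g : G) :
    Nat.card (fixedBy (Ω × Ω) g) = Nat.card (fixedBy Ω g) * Nat.card (fixedBy Ω g) := by
  rw [← Nat.card_prod]
  apply Nat.card_congr
  exact
    { toFun := fun p => (⟨p.1.1, congrArg Prod.fst p.2⟩, ⟨p.1.2, congrArg Prod.snd p.2⟩)
      invFun := fun q => ⟨(q.1.1, q.2.1), Prod.ext q.1.2 q.2.2⟩
      left_inv := fun p => rfl
      right_inv := fun q => rfl }

/-- The rank formula for the derangement subgroup. -/
theorem der_rank (G Ω : Type*) [Group G] [Finite G] [MulAction G Ω] [Finite Ω]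
    [IsPretransitive G Ω] :
    Nat.card (orbitRel.Quotient (derSub G Ω) (Ω × Ω)) - 1
      = (Nat.card (orbitRel.Quotient G (Ω × Ω)) - 1) * (derSub G Ω).index := by
  classical
  rcases isEmpty_or_nonempty Ω with hΩ | hΩ
  · have h1 : IsEmpty (orbitRel.Quotient (derSub G Ω) (Ω × Ω)) :=
      ⟨fun q => Quotient.inductionOn' q (fun x => isEmptyElim x.1)⟩
    have h2 : IsEmpty (orbitRel.Quotient G (Ω × Ω)) :=
      ⟨fun q => Quotient.inductionOn' q (fun x => isEmptyElim x.1)⟩
    simp
  have : Fintype G := Fintype.ofFinite G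
  obtain ⟨-, hfix⟩ := der_main G Ω
  set D := derSub G Ω with hD
  have : Fintype D := Fintype.ofFinite D
  have hG : ∑ g : G, Nat.card (fixedBy Ω g) * Nat.card (fixedBy Ω g)
      = Nat.card (orbitRel.Quotient G (Ω × Ω)) * Nat.card G := by
    rw [← burnside_natCard G (Ω × Ω)]
    exact Finset.sum_congr rfl (fun g _ => (card_fixedBy_prod G Ω g).symm)
  have hDsum : ∑ g ∈ Finset.univ.filter (· ∈ D), Nat.card (fixedBy Ω g) * Nat.card (fixedBy Ω g)
      = Nat.card (orbitRel.Quotient D (Ω × Ω)) * Nat.card D := by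
    rw [← burnside_natCard D (Ω × Ω),
      ← sum_subgroup_eq D (fun g => Nat.card (fixedBy Ω g) * Nat.card (fixedBy Ω g))]
    exact Finset.sum_congr rfl (fun g _ => (card_fixedBy_prod G Ω (g : G)).symm)
  have hsplit : ∑ g : G, Nat.card (fixedBy Ω g) * Nat.card (fixedBy Ω g)
      = ∑ g ∈ Finset.univ.filter (· ∈ D), Nat.card (fixedBy Ω g) * Nat.card (fixedBy Ω g)
        + ∑ g ∈ Finset.univ.filter (fun g => ¬ g ∈ D),
            Nat.card (fixedBy Ω g) * Nat.card (fixedBy Ω g) :=
    (Finset.sum_filter_add_sum_filter_not _ _ _).symm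
  have hout : ∑ g ∈ Finset.univ.filter (fun g => ¬ g ∈ D),
      Nat.card (fixedBy Ω g) * Nat.card (fixedBy Ω g)
      = (Finset.univ.filter (fun g => ¬ g ∈ D)).card := by
    rw [Finset.card_eq_sum_ones]
    apply Finset.sum_congr rfl
    intro g hg
    rw [Finset.mem_filter] at hg
    rw [hfix g hg.2]
  have hcard : (Finset.univ.filter (· ∈ D)).card + (Finset.univ.filter (fun g => ¬ g ∈ D)).card
      = Nat.card G := by
    rw [Finset.card_filter_add_card_filter_not, Finset.card_univ, Nat.card_eq_fintype_card]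
  have hDcard : (Finset.univ.filter (· ∈ D)).card = Nat.card D := by
    have := sum_subgroup_eq D (fun _ => 1)
    simp only [Finset.sum_const, Finset.card_univ, smul_eq_mul, mul_one] at this
    rw [← this, Nat.card_eq_fintype_card]
  have hm : 0 < Nat.card D := Nat.card_pos
  have hidx : D.index * Nat.card D = Nat.card G := Subgroup.index_mul_card D
  have : Nonempty (orbitRel.Quotient D (Ω × Ω)) :=
    ⟨Quotient.mk'' (Classical.arbitrary Ω, Classical.arbitrary Ω)⟩
  have : Nonempty (orbitRel.Quotient G (Ω × Ω)) :=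
    ⟨Quotient.mk'' (Classical.arbitrary Ω, Classical.arbitrary Ω)⟩
  have hrD : 0 < Nat.card (orbitRel.Quotient D (Ω × Ω)) := Nat.card_pos
  have hrG : 0 < Nat.card (orbitRel.Quotient G (Ω × Ω)) := Nat.card_pos
  generalize Nat.card (orbitRel.Quotient D (Ω × Ω)) = rD at *
  generalize Nat.card (orbitRel.Quotient G (Ω × Ω)) = rG at *
  generalize D.index = k at *
  generalize Nat.card D = m at *
  generalize Nat.card G = N at *
  have e1 : (rG * k + 1) * m = (rD + k) * m := by
    have : rG * N = rD * m + (N - m) := by omega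
    subst hidx
    have hk : m ≤ k * m := by nlinarith
    zify [hk] at this ⊢
    linarith
  have e2 : rG * k + 1 = rD + k := Nat.eq_of_mul_eq_mul_right hm e1
  obtain ⟨r, rfl⟩ : ∃ r, rG = r + 1 := ⟨rG - 1, by omega⟩
  simp only [Nat.add_sub_cancel]
  have : (r + 1) * k = r * k + k := by ring
  omega

end Cfsg.Agent.Lib.Helper59
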