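import Mathlib

/-!
# Rank-one Steinberg pairs

An abstract group `G` with two maps `x y : K → G` satisfying the rank-one Steinberg relations
(additivity and the two `w`-conjugation relations).  We derive the usual consequences
(`w`, `h`, the central symbols `f`), show that `h` is multiplicative when `K` is finite, and
obtain the Bruhat normal form `G = UH ∪ UH w U`.
-/

set_option autoImplicit false

namespace Cfsg.Agent.Lib.Helper59

/-- A rank-one Steinberg pair. -/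
structure StPair (K : Type*) [Field K] (G : Type*) [Group G] where
  /-- upper root elements -/
  x : K → G
  /-- lower root elements -/
  y : K → G
  x_add : ∀ t u, x t * x u = x (t + u)
  y_add : ∀ t u, y t * y u = y (t + u)
  rel1 : ∀ t u, t ≠ 0 →
    (x t * y (-t⁻¹) * x t) * x u * (x t * y (-t⁻¹) * x t)⁻¹ = y (-(t⁻¹ ^ 2 * u))
  rel2 : ∀ t u, t ≠ 0 →
    (y t * x (-t⁻¹) * y t) * y u * (y t * x (-t⁻¹) * y t)⁻¹ = x (-(t⁻¹ ^ 2 * u))
  gen : Subgroup.closure (Set.range x ∪ Set.range y) = ⊤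

namespace StPair

variable {K : Type*} [Field K] {G : Type*} [Group G] (P : StPair K G)

theorem x_zero : P.x 0 = 1 := by
  have h := P.x_add 0 0
  rw [add_zero] at h
  exact mul_left_cancel (a := P.x 0) (by rw [h, mul_one])

theorem y_zero : P.y 0 = 1 := by
  have h := P.y_add 0 0
  rw [add_zero] at h
  exact mul_left_cancel (a := P.y 0) (by rw [h, mul_one])

theorem x_neg (t : K) : P.x (-t) = (P.x t)⁻¹ := by
  apply eq_inv_of_mul_eq_one_left
  rw [P.x_add, neg_add_cancel, P.x_zero]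

theorem y_neg (t : K) : P.y (-t) = (P.y t)⁻¹ := by
  apply eq_inv_of_mul_eq_one_left
  rw [P.y_add, neg_add_cancel, P.y_zero]

/-- `w(t) = x(t) y(-t⁻¹) x(t)`. -/
def w (t : K) : G := P.x t * P.y (-t⁻¹) * P.x t

/-- `w'(t) = y(t) x(-t⁻¹) y(t)`. -/
def w' (t : K) : G := P.y t * P.x (-t⁻¹) * P.y t

theorem w_inv (t : K) : (P.w t)⁻¹ = P.w (-t) := by
  simp only [w, mul_inv_rev, inv_neg, neg_neg, P.x_neg, P.y_neg, inv_inv, mul_assoc]

theorem w_neg (t : K) : P.w (-t) = (P.w t)⁻¹ := (P.w_inv t).symm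

theorem w_eq_w' {t : K} (ht : t ≠ 0) : P.w t = P.w' (-t⁻¹) := by
  have h := P.rel1 t t ht
  have e : -(t⁻¹ ^ 2 * t) = -t⁻¹ := by field_simp
  rw [e, mul_inv_eq_iff_eq_mul] at h
  have h2 : P.x t * P.y (-t⁻¹) * P.x t = P.y (-t⁻¹) * P.x t * P.y (-t⁻¹) := by
    apply mul_right_cancel (b := P.x t)
    rw [h]; simp only [mul_assoc]
  have e2 : -(-t⁻¹)⁻¹ = t := by rw [inv_neg, inv_inv, neg_neg]
  rw [w, w', e2, h2]

theorem conj_w_x {t : K} (ht : t ≠ 0) (u : K) :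
    P.w t * P.x u * (P.w t)⁻¹ = P.y (-(t⁻¹ ^ 2 * u)) := P.rel1 t u ht

theorem conj_w_y {t : K} (ht : t ≠ 0) (u : K) :
    P.w t * P.y u * (P.w t)⁻¹ = P.x (-(t ^ 2 * u)) := by
  have hs : -t⁻¹ ≠ 0 := neg_ne_zero.mpr (inv_ne_zero ht)
  have h := P.rel2 (-t⁻¹) u hs
  rw [P.w_eq_w' ht]
  have e : (-t⁻¹)⁻¹ ^ 2 = t ^ 2 := by rw [inv_neg, inv_inv, neg_sq]
  rw [e] at h
  exact h

theorem w_mul_x {t : K} (ht : t ≠ 0) (u : K) :
    P.w t * P.x u = P.y (-(t⁻¹ ^ 2 * u)) * P.w t := by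
  rw [← P.conj_w_x ht u, inv_mul_cancel_right]

theorem w_mul_y {t : K} (ht : t ≠ 0) (u : K) :
    P.w t * P.y u = P.x (-(t ^ 2 * u)) * P.w t := by
  rw [← P.conj_w_y ht u, inv_mul_cancel_right]

theorem conj_w_w {t u : K} (ht : t ≠ 0) (hu : u ≠ 0) :
    P.w t * P.w u * (P.w t)⁻¹ = P.w (t ^ 2 * u⁻¹) := by
  have hne : t ^ 2 * u⁻¹ ≠ 0 := mul_ne_zero (pow_ne_zero 2 ht) (inv_ne_zero hu)
  rw [P.w_eq_w' hne]
  have e1 : -(t ^ 2 * u⁻¹)⁻¹ = -(t⁻¹ ^ 2 * u) := by field_simp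
  have e2 : -(-(t⁻¹ ^ 2 * u))⁻¹ = -(t ^ 2 * -u⁻¹) := by field_simp
  rw [e1, w', e2, ← P.conj_w_x ht u, ← P.conj_w_y ht (-u⁻¹)]
  simp only [w]; group

/-- `h(t) = w(t) w(1)⁻¹`. -/
def h (t : K) : G := P.w t * (P.w 1)⁻¹

theorem h_one : P.h 1 = 1 := by rw [h, mul_inv_cancel]

theorem w_eq_h (t : K) : P.w t = P.h t * P.w 1 := by rw [h, inv_mul_cancel_right]

theorem conj_h_x {t : K} (ht : t ≠ 0) (u : K) :
    P.h t * P.x u * (P.h t)⁻¹ = P.x (t ^ 2 * u) := by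
  have h1 : (P.w 1)⁻¹ * P.x u * P.w 1 = P.y (-u) := by
    have := P.conj_w_x (t := -1) (by norm_num) u
    rw [P.w_neg, inv_inv] at this
    rw [this]; congr 1; ring_nf
  have h2 := P.conj_w_y ht (-u)
  rw [← h1] at h2
  rw [h, mul_inv_rev, inv_inv]
  have e : -(t ^ 2 * -u) = t ^ 2 * u := by ring
  rw [e] at h2
  rw [← h2]; simp only [mul_assoc]

theorem conj_h_y {t : K} (ht : t ≠ 0) (u : K) :
    P.h t * P.y u * (P.h t)⁻¹ = P.y (t⁻¹ ^ 2 * u) := by
  have h1 : (P.w 1)⁻¹ * P.y u * P.w 1 = P.x (-u) := by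
    have := P.conj_w_y (t := -1) (by norm_num) u
    rw [P.w_neg, inv_inv] at this
    rw [this]; congr 1; ring
  have h2 := P.conj_w_x ht (-u)
  rw [← h1] at h2
  rw [h, mul_inv_rev, inv_inv]
  have e : -(t⁻¹ ^ 2 * -u) = t⁻¹ ^ 2 * u := by ring
  rw [e] at h2
  rw [← h2]; simp only [mul_assoc]

theorem h_mul_x {t : K} (ht : t ≠ 0) (u : K) :
    P.h t * P.x u = P.x (t ^ 2 * u) * P.h t := by
  rw [← P.conj_h_x ht u, inv_mul_cancel_right]

theorem h_mul_y {t : K} (ht : t ≠ 0) (u : K) :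
    P.h t * P.y u = P.y (t⁻¹ ^ 2 * u) * P.h t := by
  rw [← P.conj_h_y ht u, inv_mul_cancel_right]

theorem conj_h_w {t u : K} (ht : t ≠ 0) (hu : u ≠ 0) :
    P.h t * P.w u * (P.h t)⁻¹ = P.w (t ^ 2 * u) := by
  have h1 : (P.w 1)⁻¹ * P.w u * P.w 1 = P.w u⁻¹ := by
    have := P.conj_w_w (t := -1) (u := u) (by norm_num) hu
    rw [P.w_neg, inv_inv] at this
    rw [this]; congr 1; ring
  have h2 := P.conj_w_w ht (inv_ne_zero hu)
  rw [inv_inv, ← h1] at h2
  rw [h, mul_inv_rev, inv_inv, ← h2]; simp only [mul_assoc]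

theorem conj_h_h {t u : K} (ht : t ≠ 0) (hu : u ≠ 0) :
    P.h t * P.h u * (P.h t)⁻¹ = P.h (t ^ 2 * u) * (P.h (t ^ 2))⁻¹ := by
  have h1 := P.conj_h_w ht hu
  have h2 := P.conj_h_w ht (one_ne_zero (α := K))
  rw [mul_one] at h2
  have : P.h t * P.h u * (P.h t)⁻¹
      = (P.h t * P.w u * (P.h t)⁻¹) * (P.h t * P.w 1 * (P.h t)⁻¹)⁻¹ := by
    rw [h, h]; group
  rw [this, h1, h2, h, h]; group

theorem hinv_mul_x {t : K} (ht : t ≠ 0) (u : K) :
    (P.h t)⁻¹ * P.x u = P.x (t⁻¹ ^ 2 * u) * (P.h t)⁻¹ := by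
  have h1 := P.h_mul_x ht (t⁻¹ ^ 2 * u)
  have e : t ^ 2 * (t⁻¹ ^ 2 * u) = u := by field_simp
  rw [e] at h1
  rw [inv_mul_eq_iff_eq_mul, ← mul_assoc, h1, mul_inv_cancel_right]

theorem hinv_mul_y {t : K} (ht : t ≠ 0) (u : K) :
    (P.h t)⁻¹ * P.y u = P.y (t ^ 2 * u) * (P.h t)⁻¹ := by
  have h1 := P.h_mul_y ht (t ^ 2 * u)
  have e : t⁻¹ ^ 2 * (t ^ 2 * u) = u := by field_simp
  rw [e] at h1
  rw [inv_mul_eq_iff_eq_mul, ← mul_assoc, h1, mul_inv_cancel_right]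

/-- The symbol `f(t,u) = h(t) h(u) h(tu)⁻¹`. -/
def f (t u : K) : G := P.h t * P.h u * (P.h (t * u))⁻¹

theorem mem_center_of_comm {z : G} (hx : ∀ s, Commute z (P.x s)) (hy : ∀ s, Commute z (P.y s)) :
    z ∈ Subgroup.center G := by
  rw [Subgroup.mem_center_iff]
  intro g
  have hle : Subgroup.closure (Set.range P.x ∪ Set.range P.y) ≤ Subgroup.centralizer {z} := by
    rw [Subgroup.closure_le]
    rintro g (⟨s, rfl⟩ | ⟨s, rfl⟩)
    · rw [SetLike.mem_coe, Subgroup.mem_centralizer_iff]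
      rintro _ rfl
      exact (hx s).eq
    · rw [SetLike.mem_coe, Subgroup.mem_centralizer_iff]
      rintro _ rfl
      exact (hy s).eq
  have hg : g ∈ Subgroup.centralizer {z} := hle (by rw [P.gen]; trivial)
  rw [Subgroup.mem_centralizer_iff] at hg
  exact (hg z rfl).symm

theorem f_mem_center {t u : K} (ht : t ≠ 0) (hu : u ≠ 0) : P.f t u ∈ Subgroup.center G := by
  have htu : t * u ≠ 0 := mul_ne_zero ht hu
  apply P.mem_center_of_comm
  · intro s
    change P.f t u * P.x s = P.x s * P.f t u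
    rw [f, mul_assoc, P.hinv_mul_x htu, mul_assoc, ← mul_assoc (P.h u), P.h_mul_x hu,
      ← mul_assoc, ← mul_assoc, P.h_mul_x ht]
    have e : t ^ 2 * (u ^ 2 * ((t * u)⁻¹ ^ 2 * s)) = s := by field_simp
    rw [e]; simp only [mul_assoc]
  · intro s
    change P.f t u * P.y s = P.y s * P.f t u
    rw [f, mul_assoc, P.hinv_mul_y htu, mul_assoc, ← mul_assoc (P.h u), P.h_mul_y hu,
      ← mul_assoc, ← mul_assoc, P.h_mul_y ht]
    have e : t⁻¹ ^ 2 * (u⁻¹ ^ 2 * ((t * u) ^ 2 * s)) = s := by field_simp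
    rw [e]; simp only [mul_assoc]

theorem f_one_right (t : K) : P.f t 1 = 1 := by
  rw [f, P.h_one, mul_one, mul_one, mul_inv_cancel]

theorem f_one_left (u : K) : P.f 1 u = 1 := by
  rw [f, P.h_one, one_mul, one_mul, mul_inv_cancel]

theorem f_sq_mul_aux {t u v : K} (ht : t ≠ 0) (hu : u ≠ 0) (hv : v ≠ 0) :
    P.f t (u ^ 2 * v) = P.f t v * (P.h t * P.h u * (P.h t)⁻¹ * (P.h u)⁻¹) := by
  have k1 : P.h (u ^ 2 * v) = P.h u * P.h v * (P.h u)⁻¹ * P.h (u ^ 2) := by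
    rw [P.conj_h_h hu hv, inv_mul_cancel_right]
  have k2 : P.h (u ^ 2 * (t * v)) = P.h u * P.h (t * v) * (P.h u)⁻¹ * P.h (u ^ 2) := by
    rw [P.conj_h_h hu (mul_ne_zero ht hv), inv_mul_cancel_right]
  have e : t * (u ^ 2 * v) = u ^ 2 * (t * v) := by ring
  have hc := P.f_mem_center ht hv
  rw [Subgroup.mem_center_iff] at hc
  have hc2 := hc (P.h t * P.h u * (P.h t)⁻¹)
  have k3 : P.f t (u ^ 2 * v)
      = (P.h t * P.h u * (P.h t)⁻¹) * P.f t v * (P.h u)⁻¹ := by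
    rw [f, e, k1, k2, f]; group
  rw [k3, hc2]; simp only [mul_assoc]

theorem comm_eq_f {t u : K} (ht : t ≠ 0) (hu : u ≠ 0) :
    P.h t * P.h u * (P.h t)⁻¹ * (P.h u)⁻¹ = P.f t (u ^ 2) := by
  have h1 := P.f_sq_mul_aux ht hu (one_ne_zero (α := K))
  rw [mul_one, P.f_one_right, one_mul] at h1
  exact h1.symm

theorem f_sq_mul {t u v : K} (ht : t ≠ 0) (hu : u ≠ 0) (hv : v ≠ 0) :
    P.f t (u ^ 2 * v) = P.f t v * P.f t (u ^ 2) := by
  rw [P.f_sq_mul_aux ht hu hv, P.comm_eq_f ht hu]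

/-- Steinberg's relation: `h(t) h(u) = h(tu)` when `t + u = 1`. -/
theorem h_mul_of_add_eq_one {t u : K} (ht : t ≠ 0) (hu : u ≠ 0) (htu : t + u = 1) :
    P.h (t * u) = P.h t * P.h u := by
  have hinv : -(t * u)⁻¹ = -t⁻¹ + -u⁻¹ := by
    have : (t * u)⁻¹ = t⁻¹ + u⁻¹ := by
      field_simp
      rw [add_comm]; exact htu.symm
    rw [this]; ring
  have hy1 : P.y (-t⁻¹) = P.x (-t) * P.w t * P.x (-t) := by
    rw [w, P.x_neg]; group
  have hy2 : P.y (-u⁻¹) = P.x (-u) * P.w u * P.x (-u) := by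
    rw [w, P.x_neg]; group
  have e1 : P.w (t * u) = P.x (t * u + -t) * P.w t * P.x (-t + -u) * P.w u * P.x (-u + t * u) := by
    rw [w, hinv, ← P.y_add, hy1, hy2, ← P.x_add, ← P.x_add, ← P.x_add]; simp only [mul_assoc]
  have a1 : t * u + -t = -(t ^ 2 * 1) := by
    have : u = 1 - t := by rw [← htu]; ring
    rw [this]; ring
  have a2 : -t + -u = -1 := by rw [← htu]; ring
  have a3 : -u + t * u = -u ^ 2 := by
    have : t = 1 - u := by rw [← htu]; ring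
    rw [this]; ring
  rw [a1, a2, a3, ← P.w_mul_y ht 1] at e1
  have k4 := P.w_mul_x hu (-u ^ 2)
  have e4 : -(u⁻¹ ^ 2 * -u ^ 2) = 1 := by field_simp
  rw [e4] at k4
  have e5 : P.w (t * u) = P.w t * (P.y 1 * P.x (-1) * P.y 1) * P.w u := by
    rw [e1]; simp only [mul_assoc]; rw [k4]
  have k5 : P.y 1 * P.x (-1) * P.y 1 = (P.w 1)⁻¹ := by
    rw [P.w_inv, P.w_eq_w' (t := -1) (by norm_num), w']
    norm_num
  rw [k5] at e5
  rw [h, e5, h, h]; simp only [mul_assoc]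

section FiniteField

variable [Finite K]

omit [Finite K] in
theorem h_pow_gen (v : Kˣ) (n : ℕ) :
    ∃ z ∈ Subgroup.center G, P.h ((v ^ n : Kˣ) : K) = P.h (v : K) ^ n * z := by
  induction n with
  | zero => exact ⟨1, one_mem _, by simp [P.h_one]⟩
  | succ n ih =>
    obtain ⟨z, hz, hzn⟩ := ih
    have hf := P.f_mem_center (t := ((v ^ n : Kˣ) : K)) (u := (v : K))
      (Units.ne_zero _) (Units.ne_zero _)
    have hfi := inv_mem hf
    refine ⟨z * (P.f ((v ^ n : Kˣ) : K) (v : K))⁻¹, mul_mem hz hfi, ?_⟩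
    have e : P.h (((v ^ (n + 1) : Kˣ)) : K)
        = (P.f ((v ^ n : Kˣ) : K) (v : K))⁻¹ * P.h ((v ^ n : Kˣ) : K) * P.h (v : K) := by
      rw [f, pow_succ, Units.val_mul]; group
    rw [e, hzn, pow_succ]
    rw [Subgroup.mem_center_iff] at hz hfi
    rw [← hfi (P.h (v : K) ^ n * z), mul_assoc (P.h (v : K) ^ n * z), ← hfi (P.h (v : K)),
      mul_assoc (P.h (v : K) ^ n) z, ← mul_assoc z, ← hz (P.h (v : K))]
    simp only [mul_assoc]

theorem h_comm {t u : K} (ht : t ≠ 0) (hu : u ≠ 0) : P.h t * P.h u = P.h u * P.h t := by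
  obtain ⟨v, hv⟩ := IsCyclic.exists_monoid_generator (α := Kˣ)
  obtain ⟨m, hm⟩ := hv (Units.mk0 t ht)
  obtain ⟨n, hn⟩ := hv (Units.mk0 u hu)
  obtain ⟨z, hz, h1⟩ := P.h_pow_gen v m
  obtain ⟨z', hz', h2⟩ := P.h_pow_gen v n
  have hm' : (v ^ m : Kˣ) = Units.mk0 t ht := hm
  have hn' : (v ^ n : Kˣ) = Units.mk0 u hu := hn
  rw [hm', Units.val_mk0] at h1
  rw [hn', Units.val_mk0] at h2
  rw [Subgroup.mem_center_iff] at hz hz'
  have c1 : ∀ g : G, Commute z g := fun g => (hz g).symm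
  have c2 : ∀ g : G, Commute z' g := fun g => (hz' g).symm
  have : Commute (P.h (v : K) ^ m * z) (P.h (v : K) ^ n * z') :=
    Commute.mul_left (Commute.mul_right (Commute.pow_pow_self _ m n) (c2 _).symm) (c1 _)
  rw [h1, h2]; exact this.eq

theorem f_sq {t u : K} (ht : t ≠ 0) (hu : u ≠ 0) : P.f t (u ^ 2) = 1 := by
  rw [← P.comm_eq_f ht hu, P.h_comm ht hu]; group

theorem f_sq_mul' {t u v : K} (ht : t ≠ 0) (hu : u ≠ 0) (hv : v ≠ 0) :
    P.f t (u ^ 2 * v) = P.f t v := by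
  rw [P.f_sq_mul ht hu hv, P.f_sq ht hu, mul_one]

theorem f_symm {t u : K} (ht : t ≠ 0) (hu : u ≠ 0) : P.f t u = P.f u t := by
  rw [f, f, P.h_comm ht hu, mul_comm t u]

omit [Finite K] in
theorem f_eq_one_of_add_eq_one {t u : K} (ht : t ≠ 0) (hu : u ≠ 0) (htu : t + u = 1) :
    P.f t u = 1 := by
  rw [f, P.h_mul_of_add_eq_one ht hu htu, mul_inv_cancel]

omit P in
theorem exists_sq_add_sq (c : K) (hodd : ringChar K ≠ 2) : ∃ a b : K, a ^ 2 + b ^ 2 = c := by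
  classical
  cases nonempty_fintype K
  have hcard := FiniteField.odd_card_of_char_ne_two hodd
  obtain ⟨a, b, hab⟩ := FiniteField.exists_root_sum_quadratic
    (f := (Polynomial.X : Polynomial K) ^ 2) (g := Polynomial.X ^ 2 - Polynomial.C c)
    (Polynomial.degree_X_pow 2) (Polynomial.degree_X_pow_sub_C (by decide) _) hcard
  refine ⟨a, b, ?_⟩
  simp only [Polynomial.eval_pow, Polynomial.eval_X, Polynomial.eval_sub, Polynomial.eval_C] at hab
  linear_combination hab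

theorem f_gen (v : Kˣ) : P.f (v : K) (v : K) = 1 := by
  have hv0 : (v : K) ≠ 0 := v.ne_zero
  by_cases hsq : IsSquare (v : K)
  · obtain ⟨b, hb⟩ := hsq
    have hb0 : b ≠ 0 := by
      rintro rfl
      rw [mul_zero] at hb
      exact hv0 hb
    calc P.f (v : K) (v : K) = P.f (v : K) (b ^ 2 * 1) := by
          congr 1; rw [hb]; ring
      _ = P.f (v : K) 1 := P.f_sq_mul' hv0 hb0 one_ne_zero
      _ = 1 := P.f_one_right _
  · have hchar : ringChar K ≠ 2 := fun h2 => hsq (FiniteField.isSquare_of_char_two h2 _)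
    obtain ⟨a, b, hab⟩ := exists_sq_add_sq ((v : K)⁻¹) hchar
    have ha : a ≠ 0 := by
      rintro rfl
      apply hsq
      refine ⟨b⁻¹, ?_⟩
      have : b ^ 2 = (v : K)⁻¹ := by rw [← hab]; ring
      rw [← mul_inv, ← sq, this, inv_inv]
    have hb : b ≠ 0 := by
      rintro rfl
      apply hsq
      refine ⟨a⁻¹, ?_⟩
      have : a ^ 2 = (v : K)⁻¹ := by rw [← hab]; ring
      rw [← mul_inv, ← sq, this, inv_inv]
    have ha2 : a ^ 2 * (v : K) ≠ 0 := mul_ne_zero (pow_ne_zero 2 ha) hv0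
    have hb2 : b ^ 2 * (v : K) ≠ 0 := mul_ne_zero (pow_ne_zero 2 hb) hv0
    have hsum : a ^ 2 * (v : K) + b ^ 2 * (v : K) = 1 := by
      rw [← add_mul, hab, inv_mul_cancel₀ hv0]
    have hf1 := P.f_eq_one_of_add_eq_one ha2 hb2 hsum
    calc P.f (v : K) (v : K) = P.f (v : K) (a ^ 2 * (v : K)) := (P.f_sq_mul' hv0 ha hv0).symm
      _ = P.f (a ^ 2 * (v : K)) (v : K) := P.f_symm hv0 ha2
      _ = P.f (a ^ 2 * (v : K)) (b ^ 2 * (v : K)) := (P.f_sq_mul' ha2 hb hv0).symm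
      _ = 1 := hf1

theorem f_eq_one {t u : K} (ht : t ≠ 0) (hu : u ≠ 0) : P.f t u = 1 := by
  obtain ⟨v, hv⟩ := IsCyclic.exists_monoid_generator (α := Kˣ)
  obtain ⟨m, hm⟩ := hv (Units.mk0 t ht)
  obtain ⟨n, hn⟩ := hv (Units.mk0 u hu)
  have hv0 : (v : K) ≠ 0 := v.ne_zero
  have ht' : t = (v : K) ^ m := by
    have hm' : (v ^ m : Kˣ) = Units.mk0 t ht := hm
    have := congrArg Units.val hm'
    rw [Units.val_pow_eq_pow_val, Units.val_mk0] at this
    exact this.symm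
  have hu' : u = (v : K) ^ n := by
    have hn' : (v ^ n : Kˣ) = Units.mk0 u hu := hn
    have := congrArg Units.val hn'
    rw [Units.val_pow_eq_pow_val, Units.val_mk0] at this
    exact this.symm
  have key : ∀ s : K, s ≠ 0 → ∀ n : ℕ, P.f s ((v : K) ^ n) = P.f s ((v : K) ^ (n % 2)) := by
    intro s hs n
    have e : (v : K) ^ n = ((v : K) ^ (n / 2)) ^ 2 * (v : K) ^ (n % 2) := by
      rw [← pow_mul, ← pow_add]; congr 1; omega
    rw [e, P.f_sq_mul' hs (pow_ne_zero _ hv0) (pow_ne_zero _ hv0)]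
  rw [hu', key t ht n]
  rcases Nat.mod_two_eq_zero_or_one n with h0 | h1
  · rw [h0, pow_zero, P.f_one_right]
  · rw [h1, pow_one, P.f_symm ht hv0, ht', key (v : K) hv0 m]
    rcases Nat.mod_two_eq_zero_or_one m with h0 | h1
    · rw [h0, pow_zero, P.f_one_right]
    · rw [h1, pow_one, P.f_gen v]

/-- Over a finite field, `h` is multiplicative. -/
theorem h_mul {t u : K} (ht : t ≠ 0) (hu : u ≠ 0) : P.h (t * u) = P.h t * P.h u := by
  have := P.f_eq_one ht hu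
  rw [f, mul_inv_eq_one] at this
  exact this.symm

theorem h_inv {t : K} (ht : t ≠ 0) : (P.h t)⁻¹ = P.h t⁻¹ := by
  apply inv_eq_of_mul_eq_one_right
  rw [← P.h_mul ht (inv_ne_zero ht), mul_inv_cancel₀ ht, P.h_one]

omit [Finite K] in
theorem x_mul_h {t : K} (ht : t ≠ 0) (a : K) : P.x a * P.h t = P.h t * P.x (t⁻¹ ^ 2 * a) := by
  rw [P.h_mul_x ht]
  congr 2
  field_simp

omit [Finite K] in
theorem w_one_mul_h {t : K} (ht : t ≠ 0) : P.w 1 * P.h t = P.h t⁻¹ * P.w 1 := by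
  have h1 := P.conj_w_w (t := 1) (u := t) one_ne_zero ht
  rw [one_pow, one_mul] at h1
  rw [← P.w_eq_h t⁻¹, ← h1, h]; group

theorem w_one_sq : P.w 1 * P.w 1 = P.h (-1) := by
  have h1 : (P.h (-1))⁻¹ = P.w 1 * P.w 1 := by rw [h, P.w_neg, mul_inv_rev, inv_inv]
  rw [← h1, P.h_inv (by norm_num)]
  norm_num

omit [Finite K] in
theorem w_one_inv : (P.w 1)⁻¹ = P.h (-1) * P.w 1 := by rw [← P.w_eq_h, P.w_neg]

omit [Finite K] in
theorem y_eq (c : K) : P.y c = P.w 1 * P.x (-c) * (P.w 1)⁻¹ := by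
  rw [P.conj_w_x one_ne_zero]; congr 1; simp

omit [Finite K] in
theorem y_neg_eq (a : K) :
    P.y (-a) = P.x (-a⁻¹) * P.h a⁻¹ * P.w 1 * P.x (-a⁻¹) := by
  rw [mul_assoc (P.x (-a⁻¹)), ← P.w_eq_h, w, inv_inv, P.x_neg]; group

/-- The Bruhat normal forms `UH ∪ UH w U`. -/
def bruhat : Set G :=
  {g | ∃ (a t : K), t ≠ 0 ∧ g = P.x a * P.h t} ∪
    {g | ∃ (a t b : K), t ≠ 0 ∧ g = P.x a * P.h t * P.w 1 * P.x b}

omit [Finite K] in
theorem one_mem_bruhat : (1 : G) ∈ P.bruhat :=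
  Or.inl ⟨0, 1, one_ne_zero, by rw [P.x_zero, P.h_one, one_mul]⟩

omit [Finite K] in
theorem x_mul_mem (c : K) {g : G} (hg : g ∈ P.bruhat) : P.x c * g ∈ P.bruhat := by
  rcases hg with ⟨a, t, ht, rfl⟩ | ⟨a, t, b, ht, rfl⟩
  · exact Or.inl ⟨c + a, t, ht, by rw [← mul_assoc, P.x_add]⟩
  · exact Or.inr ⟨c + a, t, b, ht, by simp only [← mul_assoc, P.x_add]⟩

theorem h_mul_mem {s : K} (hs : s ≠ 0) {g : G} (hg : g ∈ P.bruhat) : P.h s * g ∈ P.bruhat := by
  rcases hg with ⟨a, t, ht, rfl⟩ | ⟨a, t, b, ht, rfl⟩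
  · exact Or.inl ⟨s ^ 2 * a, s * t, mul_ne_zero hs ht, by
      rw [← mul_assoc, P.h_mul_x hs, mul_assoc, ← P.h_mul hs ht]⟩
  · exact Or.inr ⟨s ^ 2 * a, s * t, b, mul_ne_zero hs ht, by
      rw [P.h_mul hs ht]
      simp only [← mul_assoc]
      rw [P.h_mul_x hs]⟩

theorem w_mul_mem {g : G} (hg : g ∈ P.bruhat) : P.w 1 * g ∈ P.bruhat := by
  rcases hg with ⟨a, t, ht, rfl⟩ | ⟨a, t, b, ht, rfl⟩
  · refine Or.inr ⟨0, t⁻¹, t⁻¹ ^ 2 * a, inv_ne_zero ht, ?_⟩
    rw [P.x_mul_h ht, ← mul_assoc, P.w_one_mul_h ht, P.x_zero, one_mul]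
  · by_cases ha : a = 0
    · subst ha
      have hs : -t⁻¹ ≠ 0 := neg_ne_zero.mpr (inv_ne_zero ht)
      refine Or.inl ⟨(-t⁻¹) ^ 2 * b, -t⁻¹, hs, ?_⟩
      have e : -t⁻¹ = t⁻¹ * -1 := by ring
      rw [P.x_zero, one_mul, ← mul_assoc, ← mul_assoc, P.w_one_mul_h ht, mul_assoc (P.h t⁻¹),
        P.w_one_sq, ← P.h_mul (inv_ne_zero ht) (by norm_num), ← e, P.h_mul_x hs]
    · have hs : -t⁻¹ ≠ 0 := neg_ne_zero.mpr (inv_ne_zero ht)
      have hai : a⁻¹ ≠ 0 := inv_ne_zero ha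
      refine Or.inr ⟨-a⁻¹, a⁻¹ * (-t⁻¹)⁻¹, (-t⁻¹)⁻¹ ^ 2 * -a⁻¹ + b,
        mul_ne_zero hai (inv_ne_zero hs), ?_⟩
      have e : -t⁻¹ = t⁻¹ * -1 := by ring
      have k1 : P.w 1 * P.x a = P.y (-a) * P.w 1 := by
        rw [P.w_mul_x one_ne_zero]; congr 2; simp
      have k2 : P.w 1 * (P.x a * P.h t * P.w 1 * P.x b)
          = P.y (-a) * (P.h (-t⁻¹) * P.x b) := by
        rw [e, P.h_mul (inv_ne_zero ht) (by norm_num), ← P.w_one_sq]
        simp only [← mul_assoc]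
        rw [k1, mul_assoc (P.y (-a)), P.w_one_mul_h ht]
        simp only [← mul_assoc]
      rw [k2, P.y_neg_eq a, P.h_mul hai (inv_ne_zero hs), ← P.x_add]
      simp only [← mul_assoc]
      rw [mul_assoc _ (P.x (-a⁻¹)) (P.h (-t⁻¹)), P.x_mul_h hs, ← mul_assoc,
        mul_assoc _ (P.w 1) (P.h (-t⁻¹)), P.w_one_mul_h hs]
      simp only [← mul_assoc]

theorem winv_mul_mem {g : G} (hg : g ∈ P.bruhat) : (P.w 1)⁻¹ * g ∈ P.bruhat := by
  rw [P.w_one_inv, mul_assoc]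
  exact P.h_mul_mem (by norm_num) (P.w_mul_mem hg)

theorem y_mul_mem (c : K) {g : G} (hg : g ∈ P.bruhat) : P.y c * g ∈ P.bruhat := by
  rw [P.y_eq, mul_assoc, mul_assoc]
  exact P.w_mul_mem (P.x_mul_mem _ (P.winv_mul_mem hg))

/-- Every element has a Bruhat normal form. -/
theorem mem_bruhat (g : G) : g ∈ P.bruhat := by
  have key : ∀ m ∈ Subgroup.closure (Set.range P.x ∪ Set.range P.y),
      (∀ g ∈ P.bruhat, m * g ∈ P.bruhat) ∧ (∀ g ∈ P.bruhat, m⁻¹ * g ∈ P.bruhat) := by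
    intro m hm
    induction hm using Subgroup.closure_induction with
    | mem m hm =>
      rcases hm with ⟨c, rfl⟩ | ⟨c, rfl⟩
      · refine ⟨fun g hg => P.x_mul_mem c hg, fun g hg => ?_⟩
        rw [← P.x_neg]; exact P.x_mul_mem _ hg
      · refine ⟨fun g hg => P.y_mul_mem c hg, fun g hg => ?_⟩
        rw [← P.y_neg]; exact P.y_mul_mem _ hg
    | one => exact ⟨fun g hg => by rwa [one_mul], fun g hg => by rwa [inv_one, one_mul]⟩
    | mul a b _ _ iha ihb =>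
      refine ⟨fun g hg => ?_, fun g hg => ?_⟩
      · rw [mul_assoc]; exact iha.1 _ (ihb.1 _ hg)
      · rw [mul_inv_rev, mul_assoc]; exact ihb.2 _ (iha.2 _ hg)
    | inv a _ iha => exact ⟨iha.2, fun g hg => by rw [inv_inv]; exact iha.1 g hg⟩
  have := (key g (by rw [P.gen]; trivial)).1 1 P.one_mem_bruhat
  rwa [mul_one] at this

end FiniteField

section Hom

open Matrix

variable (φ : G →* Matrix.SpecialLinearGroup (Fin 2) K)

omit P in
theorem sl2_det (M : Matrix.SpecialLinearGroup (Fin 2) K) :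
    M.1 0 0 * M.1 1 1 - M.1 0 1 * M.1 1 0 = 1 := by
  have := M.2
  rwa [Matrix.det_fin_two] at this

theorem phi_w (hx : ∀ t, (φ (P.x t)).1 = !![1, t; 0, 1])
    (hy : ∀ t, (φ (P.y t)).1 = !![1, 0; t, 1]) {t : K} (ht : t ≠ 0) :
    (φ (P.w t)).1 = !![0, t; -t⁻¹, 0] := by
  rw [w, map_mul, map_mul]
  change (φ (P.x t)).1 * (φ (P.y (-t⁻¹))).1 * (φ (P.x t)).1 = _
  rw [hx, hy, Matrix.mul_fin_two, Matrix.mul_fin_two]
  have e1 : t * t⁻¹ = 1 := mul_inv_cancel₀ ht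
  have e2 : t⁻¹ * t = 1 := inv_mul_cancel₀ ht
  ext i j
  fin_cases i <;> fin_cases j <;> simp [e1, e2]

theorem phi_h (hx : ∀ t, (φ (P.x t)).1 = !![1, t; 0, 1])
    (hy : ∀ t, (φ (P.y t)).1 = !![1, 0; t, 1]) {t : K} (ht : t ≠ 0) :
    (φ (P.h t)).1 = !![t, 0; 0, t⁻¹] := by
  rw [h, ← P.w_neg, map_mul]
  change (φ (P.w t)).1 * (φ (P.w (-1))).1 = _
  rw [P.phi_w φ hx hy ht, P.phi_w φ hx hy (by norm_num : (-1 : K) ≠ 0), Matrix.mul_fin_two]
  ext i j
  fin_cases i <;> fin_cases j <;> simp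

theorem hom_injective [Finite K] (hx : ∀ t, (φ (P.x t)).1 = !![1, t; 0, 1])
    (hy : ∀ t, (φ (P.y t)).1 = !![1, 0; t, 1]) : Function.Injective φ := by
  rw [injective_iff_map_eq_one]
  intro g hg
  have hg' : (φ g).1 = 1 := by rw [hg]; rfl
  rcases P.mem_bruhat g with ⟨a, t, ht, rfl⟩ | ⟨a, t, b, ht, rfl⟩
  · rw [map_mul] at hg'
    change (φ (P.x a)).1 * (φ (P.h t)).1 = 1 at hg'
    rw [hx, P.phi_h φ hx hy ht, Matrix.mul_fin_two] at hg'
    have h00 := congrFun (congrFun hg' 0) 0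
    have h01 := congrFun (congrFun hg' 0) 1
    simp at h00 h01
    have ha : a = 0 := by
      rcases h01 with h | h
      · exact h
      · exact absurd h ht
    rw [h00, ha, P.x_zero, P.h_one, one_mul]
  · exfalso
    rw [map_mul, map_mul, map_mul] at hg'
    change (φ (P.x a)).1 * (φ (P.h t)).1 * (φ (P.w 1)).1 * (φ (P.x b)).1 = 1 at hg'
    rw [hx, hx, P.phi_h φ hx hy ht, P.phi_w φ hx hy one_ne_zero, Matrix.mul_fin_two,
      Matrix.mul_fin_two, Matrix.mul_fin_two] at hg'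
    have h10 := congrFun (congrFun hg' 1) 0
    simp at h10
    exact ht h10

theorem hom_surjective (hx : ∀ t, (φ (P.x t)).1 = !![1, t; 0, 1])
    (hy : ∀ t, (φ (P.y t)).1 = !![1, 0; t, 1]) : Function.Surjective φ := by
  have key : ∀ M : Matrix.SpecialLinearGroup (Fin 2) K, M.1 1 0 ≠ 0 → M ∈ φ.range := by
    intro M hc
    refine ⟨P.x ((M.1 0 0 - 1) / M.1 1 0) * P.y (M.1 1 0) * P.x ((M.1 1 1 - 1) / M.1 1 0), ?_⟩
    apply Subtype.ext
    rw [map_mul, map_mul]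
    change (φ (P.x _)).1 * (φ (P.y _)).1 * (φ (P.x _)).1 = _
    rw [hx, hy, hx, Matrix.mul_fin_two, Matrix.mul_fin_two]
    have hdet := sl2_det M
    ext i j
    fin_cases i <;> fin_cases j
    · simp
      field_simp
      ring
    · simp
      field_simp
      linear_combination hdet
    · simp
    · simp
      field_simp
      ring
  intro M
  change M ∈ φ.range
  by_cases hc : M.1 1 0 = 0
  · have hdet := sl2_det M
    rw [hc, mul_zero, sub_zero] at hdet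
    have ha : M.1 0 0 ≠ 0 := by
      intro h0
      rw [h0, zero_mul] at hdet
      exact zero_ne_one hdet
    have h1 : φ (P.y 1) * M ∈ φ.range := by
      apply key
      change ((φ (P.y 1)).1 * M.1) 1 0 ≠ 0
      rw [hy, Matrix.mul_apply, Fin.sum_univ_two]
      simp [hc, ha]
    have h2 := φ.range.mul_mem (φ.range.inv_mem ⟨P.y 1, rfl⟩) h1
    rwa [inv_mul_cancel_left] at h2
  · exact key M hc

end Hom

end StPair

section Presented

variable (K : Type*) [Field K]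

/-- The rank-one Steinberg relations. -/
def stRels : Set (FreeGroup (Bool × K)) :=
  {g : FreeGroup (Bool × K) | ∃ (b : Bool) (t u : K),
      g = FreeGroup.of (b, t) * FreeGroup.of (b, u) * (FreeGroup.of (b, t + u))⁻¹} ∪
    {g | ∃ (b : Bool) (t u : K), t ≠ 0 ∧
      g = (FreeGroup.of (b, t) * FreeGroup.of (!b, -t⁻¹) * FreeGroup.of (b, t)) *
            FreeGroup.of (b, u) *
            (FreeGroup.of (b, t) * FreeGroup.of (!b, -t⁻¹) * FreeGroup.of (b, t))⁻¹ *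
            (FreeGroup.of (!b, -(t⁻¹ ^ 2 * u)))⁻¹}

theorem stRels_add (b : Bool) (t u : K) :
    (PresentedGroup.of (b, t) : PresentedGroup (stRels K)) * PresentedGroup.of (b, u)
      = PresentedGroup.of (b, t + u) := by
  have h : FreeGroup.of (b, t) * FreeGroup.of (b, u) * (FreeGroup.of (b, t + u))⁻¹ ∈ stRels K :=
    Or.inl ⟨b, t, u, rfl⟩
  have h1 := PresentedGroup.one_of_mem h
  rw [map_mul, map_mul, map_inv] at h1
  exact mul_inv_eq_one.mp h1

theorem stRels_conj (b : Bool) (t u : K) (ht : t ≠ 0) :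
    ((PresentedGroup.of (b, t) : PresentedGroup (stRels K)) * PresentedGroup.of (!b, -t⁻¹) *
        PresentedGroup.of (b, t)) * PresentedGroup.of (b, u) *
      (PresentedGroup.of (b, t) * PresentedGroup.of (!b, -t⁻¹) * PresentedGroup.of (b, t))⁻¹
      = PresentedGroup.of (!b, -(t⁻¹ ^ 2 * u)) := by
  have h : (FreeGroup.of (b, t) * FreeGroup.of (!b, -t⁻¹) * FreeGroup.of (b, t)) *
            FreeGroup.of (b, u) *
            (FreeGroup.of (b, t) * FreeGroup.of (!b, -t⁻¹) * FreeGroup.of (b, t))⁻¹ *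
            (FreeGroup.of (!b, -(t⁻¹ ^ 2 * u)))⁻¹ ∈ stRels K :=
    Or.inr ⟨b, t, u, ht, rfl⟩
  have h1 := PresentedGroup.one_of_mem h
  simp only [map_mul, map_inv] at h1
  exact mul_inv_eq_one.mp h1

/-- The Steinberg pair of the presented group. -/
def stPairPresented : StPair K (PresentedGroup (stRels K)) where
  x t := PresentedGroup.of (true, t)
  y t := PresentedGroup.of (false, t)
  x_add := stRels_add K true
  y_add := stRels_add K false
  rel1 t u ht := stRels_conj K true t u ht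
  rel2 t u ht := stRels_conj K false t u ht
  gen := by
    rw [← PresentedGroup.closure_range_of (stRels K)]
    congr 1
    ext g
    constructor
    · rintro (⟨t, rfl⟩ | ⟨t, rfl⟩) <;> exact ⟨_, rfl⟩
    · rintro ⟨⟨b, t⟩, rfl⟩
      cases b
      · exact Or.inr ⟨t, rfl⟩
      · exact Or.inl ⟨t, rfl⟩

/-- Upper unitriangular element of `SL₂`. -/
def slX (t : K) : Matrix.SpecialLinearGroup (Fin 2) K :=
  ⟨!![1, t; 0, 1], by simp [Matrix.det_fin_two]⟩

/-- Lower unitriangular element of `SL₂`. -/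
def slY (t : K) : Matrix.SpecialLinearGroup (Fin 2) K :=
  ⟨!![1, 0; t, 1], by simp [Matrix.det_fin_two]⟩

/-- Images of the generators. -/
def stGen : Bool × K → Matrix.SpecialLinearGroup (Fin 2) K
  | (true, t) => slX K t
  | (false, t) => slY K t

theorem stGen_rels : ∀ r ∈ stRels K, FreeGroup.lift (stGen K) r = 1 := by
  rintro r (⟨b, t, u, rfl⟩ | ⟨b, t, u, ht, rfl⟩)
  · simp only [map_mul, map_inv, FreeGroup.lift_apply_of]
    rw [mul_inv_eq_one]
    cases b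
    · apply Subtype.ext
      change (!![1, 0; t, 1] : Matrix (Fin 2) (Fin 2) K) * !![1, 0; u, 1] = !![1, 0; t + u, 1]
      rw [Matrix.mul_fin_two]
      ext i j
      fin_cases i <;> fin_cases j <;> simp
    · apply Subtype.ext
      change (!![1, t; 0, 1] : Matrix (Fin 2) (Fin 2) K) * !![1, u; 0, 1] = !![1, t + u; 0, 1]
      rw [Matrix.mul_fin_two]
      ext i j
      fin_cases i <;> fin_cases j <;> simp [add_comm]
  · simp only [map_mul, map_inv, FreeGroup.lift_apply_of]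
    rw [mul_inv_eq_one, mul_inv_eq_iff_eq_mul]
    have e1 : t * t⁻¹ = 1 := mul_inv_cancel₀ ht
    have e2 : t⁻¹ * t = 1 := inv_mul_cancel₀ ht
    cases b
    · apply Subtype.ext
      change (!![1, 0; t, 1] : Matrix (Fin 2) (Fin 2) K) * !![1, -t⁻¹; 0, 1] * !![1, 0; t, 1] *
          !![1, 0; u, 1]
        = !![1, -(t⁻¹ ^ 2 * u); 0, 1] * (!![1, 0; t, 1] * !![1, -t⁻¹; 0, 1] * !![1, 0; t, 1])
      simp only [Matrix.mul_fin_two]
      ext i j
      fin_cases i <;> fin_cases j <;> simp [e1, e2] <;> field_simp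
    · apply Subtype.ext
      change (!![1, t; 0, 1] : Matrix (Fin 2) (Fin 2) K) * !![1, 0; -t⁻¹, 1] * !![1, t; 0, 1] *
          !![1, u; 0, 1]
        = !![1, 0; -(t⁻¹ ^ 2 * u), 1] * (!![1, t; 0, 1] * !![1, 0; -t⁻¹, 1] * !![1, t; 0, 1])
      simp only [Matrix.mul_fin_two]
      ext i j
      fin_cases i <;> fin_cases j <;> simp [e1, e2] <;> field_simp

/-- The canonical homomorphism from the presented group to `SL₂`. -/
def stHom : PresentedGroup (stRels K) →* Matrix.SpecialLinearGroup (Fin 2) K :=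
  PresentedGroup.toGroup (stGen_rels K)

/-- The rank-one Steinberg presentation of `SL₂` over a finite field. -/
theorem steinberg_sl2 [Finite K] :
    ∃ e : PresentedGroup (stRels K) ≃* Matrix.SpecialLinearGroup (Fin 2) K,
      (∀ t : K, ((e (PresentedGroup.of (true, t)) : Matrix (Fin 2) (Fin 2) K)) = !![1, t; 0, 1]) ∧
      (∀ t : K, ((e (PresentedGroup.of (false, t)) : Matrix (Fin 2) (Fin 2) K)) = !![1, 0; t, 1]) := by
  have hx : ∀ t, (stHom K ((stPairPresented K).x t)).1 = !![1, t; 0, 1] := fun t => by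
    change (PresentedGroup.toGroup (stGen_rels K) (PresentedGroup.of (true, t))).1 = _
    rw [PresentedGroup.toGroup.of]; rfl
  have hy : ∀ t, (stHom K ((stPairPresented K).y t)).1 = !![1, 0; t, 1] := fun t => by
    change (PresentedGroup.toGroup (stGen_rels K) (PresentedGroup.of (false, t))).1 = _
    rw [PresentedGroup.toGroup.of]; rfl
  exact ⟨MulEquiv.ofBijective (stHom K)
    ⟨(stPairPresented K).hom_injective _ hx hy, (stPairPresented K).hom_surjective _ hx hy⟩,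
    hx, hy⟩

end Presented

end Cfsg.Agent.Lib.Helper59
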