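import Mathlib

set_option autoImplicit false

namespace Cfsg.Agent.Lib.Helper59

open Matrix

section TwoByTwo

variable {E : Type*} [Field E]

theorem cayley2 (A : Matrix (Fin 2) (Fin 2) E) (hdet : A.det = 1) :
    A * A = A.trace • A - 1 := by
  rw [Matrix.det_fin_two] at hdet
  ext i j
  fin_cases i <;> fin_cases j <;>
    simp [Matrix.mul_apply, Fin.sum_univ_two, Matrix.trace_fin_two] <;>
    first | ring1 | linear_combination (-1 : E) * hdet

theorem pow_formula (A : Matrix (Fin 2) (Fin 2) E) (l m : E) (hlm : l * m = 1)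
    (hA : A * A = (l + m) • A - 1) (n : ℕ) :
    (l - m) • A ^ n = (l ^ n - m ^ n) • A
      + (m ^ n * l - l ^ n * m) • (1 : Matrix (Fin 2) (Fin 2) E) := by
  induction n with
  | zero => simp
  | succ n ih =>
    rw [pow_succ, ← Matrix.smul_mul, ih, Matrix.add_mul, Matrix.smul_mul, Matrix.smul_mul, hA,
      Matrix.one_mul]
    ext i j
    simp only [Matrix.add_apply, Matrix.smul_apply, Matrix.sub_apply, smul_eq_mul]
    linear_combination ((1 : Matrix (Fin 2) (Fin 2) E) i j * (l ^ n - m ^ n)) * hlm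

theorem pow_formula_unip (A : Matrix (Fin 2) (Fin 2) E) (l : E) (hl : l * l = 1)
    (hA : A * A = (l + l) • A - 1) (n : ℕ) :
    A ^ n = l ^ n • (1 : Matrix (Fin 2) (Fin 2) E)
      + ((n : E) * l ^ (n + 1)) • (A - l • (1 : Matrix (Fin 2) (Fin 2) E)) := by
  induction n with
  | zero => simp
  | succ n ih =>
    rw [pow_succ, ih, Matrix.add_mul, Matrix.smul_mul, Matrix.smul_mul, Matrix.sub_mul,
      Matrix.smul_mul, hA, Matrix.one_mul]
    ext i j
    simp only [Matrix.add_apply, Matrix.smul_apply, Matrix.sub_apply, smul_eq_mul]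
    push_cast
    linear_combination (-(A i j) * l ^ n
      + (1 : Matrix (Fin 2) (Fin 2) E) i j * ((n : E) + 1) * l ^ (n + 1)) * hl

/-- if the eigenvalues `l ≠ m` satisfy `l ^ n = m ^ n`, the `n`-th power is scalar -/
theorem pow_scalar_of_eq (A : Matrix (Fin 2) (Fin 2) E) (l m : E) (hlm : l * m = 1)
    (hA : A * A = (l + m) • A - 1) (hne : l ≠ m) (n : ℕ) (hn : l ^ n = m ^ n) :
    A ^ n = m ^ n • (1 : Matrix (Fin 2) (Fin 2) E) := by
  have h := pow_formula A l m hlm hA n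
  rw [hn, sub_self, zero_smul, zero_add] at h
  have h2 : (l - m) • A ^ n = (l - m) • (m ^ n • (1 : Matrix (Fin 2) (Fin 2) E)) := by
    rw [h, smul_smul]; congr 1; ring
  exact smul_right_injective _ (sub_ne_zero.mpr hne) h2

/-- if `l ^ (2 * n) = 1` and `l * m = 1` then `l ^ n = m ^ n` -/
theorem pow_eq_pow_of_sq (l m : E) (hlm : l * m = 1) (n : ℕ) (h : l ^ (2 * n) = 1) :
    l ^ n = m ^ n := by
  have h1 : l ^ n * m ^ n = 1 := by rw [← mul_pow, hlm, one_pow]
  have h2 : l ^ n * l ^ n = 1 := by rw [← pow_add, ← two_mul, h]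
  calc l ^ n = l ^ n * (l ^ n * m ^ n) := by rw [h1, mul_one]
    _ = (l ^ n * l ^ n) * m ^ n := by ring
    _ = m ^ n := by rw [h2, one_mul]

theorem core_pow_scalar [IsAlgClosed E] (p f : ℕ) [Fact p.Prime] [CharP E p]
    (A : Matrix (Fin 2) (Fin 2) E) (hdet : A.det = 1) (ht : A.trace ^ (p ^ f) = A.trace)
    (a b : ℕ) (ha : (p ^ f - 1) ∣ 2 * a) (hb : (p ^ f + 1) ∣ 2 * b) :
    (∃ s : E, A ^ p = s • (1 : Matrix (Fin 2) (Fin 2) E)) ∨
    (∃ s : E, A ^ a = s • (1 : Matrix (Fin 2) (Fin 2) E)) ∨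
    (∃ s : E, A ^ b = s • (1 : Matrix (Fin 2) (Fin 2) E)) := by
  set t := A.trace with ht_def
  have hq : 0 < p ^ f := pow_pos (Fact.out : p.Prime).pos f
  obtain ⟨l, hl⟩ : ∃ l : E, l * l - t * l + 1 = 0 := by
    have hdeg : (Polynomial.C (1 : E) * Polynomial.X ^ 2 + Polynomial.C (-t) * Polynomial.X
        + Polynomial.C (1 : E)).degree ≠ 0 := by
      rw [Polynomial.degree_quadratic one_ne_zero]; decide
    obtain ⟨l, hl⟩ := IsAlgClosed.exists_root _ hdeg
    refine ⟨l, ?_⟩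
    simp only [Polynomial.IsRoot, Polynomial.eval_add, Polynomial.eval_mul, Polynomial.eval_C,
      Polynomial.eval_pow, Polynomial.eval_X] at hl
    linear_combination hl
  set m := t - l with hm
  have hlm : l * m = 1 := by rw [hm]; linear_combination -hl
  have hA : A * A = (l + m) • A - 1 := by
    rw [cayley2 A hdet]; congr 2; rw [hm]; ring
  have hl0 : l ≠ 0 := by
    intro h; rw [h, zero_mul] at hlm; exact zero_ne_one hlm
  by_cases hne : l = m
  · left
    rw [← hne] at hlm hA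
    refine ⟨l ^ p, ?_⟩
    rw [pow_formula_unip A l hlm hA p, CharP.cast_eq_zero E p, zero_mul, zero_smul, add_zero]
  · right
    -- Frobenius
    have hfrob : l ^ (p ^ f) * l ^ (p ^ f) - t * l ^ (p ^ f) + 1 = 0 := by
      have := congrArg (iterateFrobenius E p f) hl
      simp only [map_add, map_sub, map_mul, map_one, map_zero, iterateFrobenius_def] at this
      rw [ht] at this
      exact this
    have hprod : (l ^ (p ^ f) - l) * (l ^ (p ^ f) - m) = 0 := by
      rw [hm]; linear_combination hfrob - hl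
    rcases mul_eq_zero.mp hprod with h | h
    · left
      have h1 : l ^ (p ^ f - 1) = 1 := by
        have h2 : l ^ (p ^ f - 1) * l = l := by
          rw [← pow_succ, Nat.sub_add_cancel hq]; exact sub_eq_zero.mp h
        exact mul_right_cancel₀ hl0 (by rw [h2, one_mul])
      obtain ⟨c, hc⟩ := ha
      have h3 : l ^ (2 * a) = 1 := by rw [hc, pow_mul, h1, one_pow]
      exact ⟨m ^ a, pow_scalar_of_eq A l m hlm hA hne a (pow_eq_pow_of_sq l m hlm a h3)⟩
    · right
      have h1 : l ^ (p ^ f + 1) = 1 := by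
        rw [pow_succ, sub_eq_zero.mp h, mul_comm]; exact hlm
      obtain ⟨c, hc⟩ := hb
      have h3 : l ^ (2 * b) = 1 := by rw [hc, pow_mul, h1, one_pow]
      exact ⟨m ^ b, pow_scalar_of_eq A l m hlm hA hne b (pow_eq_pow_of_sq l m hlm b h3)⟩

end TwoByTwo

section SL2

variable {F : Type*} [Field F]

/-- scalar shape of a 2x2 matrix -/
def IsScalar2 (M : Matrix (Fin 2) (Fin 2) F) : Prop := M 0 1 = 0 ∧ M 1 0 = 0 ∧ M 0 0 = M 1 1

theorem mem_center_sl2_iff (g : Matrix.SpecialLinearGroup (Fin 2) F) :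
    g ∈ Subgroup.center (Matrix.SpecialLinearGroup (Fin 2) F)
      ↔ IsScalar2 (g : Matrix (Fin 2) (Fin 2) F) := by
  rw [Matrix.SpecialLinearGroup.mem_center_iff]
  constructor
  · rintro ⟨r, -, h⟩
    rw [← h]
    simp [IsScalar2]
  · rintro ⟨h01, h10, h00⟩
    refine ⟨g 0 0, ?_, ?_⟩
    · have := g.det_coe
      rw [Matrix.det_fin_two, h01, ← h00] at this
      simpa [pow_two] using this
    · ext i j
      fin_cases i <;> fin_cases j <;> simp [h01, h10, h00]

theorem psl_pow_eq_one_iff (g : Matrix.SpecialLinearGroup (Fin 2) F) (n : ℕ) :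
    (QuotientGroup.mk g : Matrix.ProjectiveSpecialLinearGroup (Fin 2) F) ^ n = 1
      ↔ IsScalar2 ((g : Matrix (Fin 2) (Fin 2) F) ^ n) := by
  rw [← QuotientGroup.mk_pow, QuotientGroup.eq_one_iff, mem_center_sl2_iff,
    Matrix.SpecialLinearGroup.coe_pow]

theorem isScalar2_of_map {E : Type*} [Field E] (φ : F →+* E) (M : Matrix (Fin 2) (Fin 2) F)
    (s : E) (h : φ.mapMatrix M = s • (1 : Matrix (Fin 2) (Fin 2) E)) : IsScalar2 M := by
  have h01 := congrFun (congrFun h 0) 1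
  have h10 := congrFun (congrFun h 1) 0
  have h00 := congrFun (congrFun h 0) 0
  have h11 := congrFun (congrFun h 1) 1
  simp at h01 h10 h00 h11
  exact ⟨h01, h10, φ.injective (h00.trans h11.symm)⟩

theorem sl2_pow_scalar [Fintype F] (p f : ℕ) [Fact p.Prime] [CharP F p]
    (hq : Fintype.card F = p ^ f) (a b : ℕ) (ha : (p ^ f - 1) ∣ 2 * a) (hb : (p ^ f + 1) ∣ 2 * b)
    (g : Matrix.SpecialLinearGroup (Fin 2) F) :
    IsScalar2 ((g : Matrix (Fin 2) (Fin 2) F) ^ p) ∨ IsScalar2 ((g : Matrix (Fin 2) (Fin 2) F) ^ a)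
      ∨ IsScalar2 ((g : Matrix (Fin 2) (Fin 2) F) ^ b) := by
  let φ : F →+* AlgebraicClosure F := algebraMap F (AlgebraicClosure F)
  have : CharP (AlgebraicClosure F) p := charP_of_injective_algebraMap φ.injective p
  set A := φ.mapMatrix (g : Matrix (Fin 2) (Fin 2) F) with hAdef
  have hdet : A.det = 1 := by
    rw [hAdef, ← RingHom.map_det, g.det_coe, map_one]
  have htr : A.trace ^ (p ^ f) = A.trace := by
    have h1 : A.trace = φ ((g : Matrix (Fin 2) (Fin 2) F) 0 0 + (g : Matrix (Fin 2) (Fin 2) F) 1 1) := by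
      rw [Matrix.trace_fin_two, hAdef]; simp
    rw [h1, ← map_pow, ← hq, FiniteField.pow_card]
  have key : ∀ n : ℕ, (∃ s : AlgebraicClosure F, A ^ n = s • (1 : Matrix (Fin 2) (Fin 2) _)) →
      IsScalar2 ((g : Matrix (Fin 2) (Fin 2) F) ^ n) := by
    rintro n ⟨s, hs⟩
    apply isScalar2_of_map φ _ s
    rw [map_pow]; exact hs
  rcases core_pow_scalar p f A hdet htr a b ha hb with h | h | h
  · exact Or.inl (key _ h)
  · exact Or.inr (Or.inl (key _ h))
  · exact Or.inr (Or.inr (key _ h))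

theorem exists_of_dvd_orderOf {G : Type*} [Group G] (x : G) {n : ℕ} (hN : orderOf x ≠ 0)
    (hn : n ∣ orderOf x) : ∃ y : G, orderOf y = n := by
  refine ⟨x ^ (orderOf x / n), ?_⟩
  have h1 : orderOf x / n ∣ orderOf x := Nat.div_dvd_of_dvd hn
  have h2 : orderOf x / n ≠ 0 := by
    have hn0 : n ≠ 0 := fun h0 => hN (by rw [h0] at hn; exact Nat.eq_zero_of_zero_dvd hn)
    have := Nat.div_pos (Nat.le_of_dvd (Nat.pos_of_ne_zero hN) hn) (Nat.pos_of_ne_zero hn0)
    omega
  rw [orderOf_pow_of_dvd h2 h1, Nat.div_div_self hn hN]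

theorem psl2_exists_order_p (p : ℕ) [Fact p.Prime] [CharP F p] :
    ∃ x : Matrix.ProjectiveSpecialLinearGroup (Fin 2) F, orderOf x = p := by
  let u : Matrix.SpecialLinearGroup (Fin 2) F := ⟨!![1, 1; 0, 1], by simp [Matrix.det_fin_two]⟩
  have hpow : ∀ n : ℕ, (u : Matrix (Fin 2) (Fin 2) F) ^ n = !![1, (n : F); 0, 1] := by
    intro n
    induction n with
    | zero => simp [Matrix.one_fin_two]
    | succ n ih =>
      rw [pow_succ, ih]
      show !![1, (n : F); 0, 1] * !![1, 1; 0, 1] = _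
      rw [Matrix.mul_fin_two]; simp [add_comm]
  refine ⟨QuotientGroup.mk u, orderOf_eq_prime ?_ ?_⟩
  · rw [psl_pow_eq_one_iff, hpow]; simp [IsScalar2]
  · intro h
    have h1 : (QuotientGroup.mk u : Matrix.ProjectiveSpecialLinearGroup (Fin 2) F) ^ 1 = 1 := by
      rw [pow_one]; exact h
    rw [psl_pow_eq_one_iff, hpow] at h1
    simp [IsScalar2] at h1

theorem orderOf_eq_of_pow_iff {G : Type*} [Group G] (x : G) (a : ℕ)
    (h : ∀ n : ℕ, x ^ n = 1 ↔ a ∣ n) : orderOf x = a :=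
  Nat.dvd_antisymm (orderOf_dvd_of_pow_eq_one ((h a).mpr dvd_rfl))
    ((h _).mp (pow_orderOf_eq_one _))

theorem psl2_exists_order_a [Fintype F] (a : ℕ)
    (ha : ∀ n, (Fintype.card F - 1) ∣ 2 * n ↔ a ∣ n) :
    ∃ x : Matrix.ProjectiveSpecialLinearGroup (Fin 2) F, orderOf x = a := by
  classical
  obtain ⟨ζ, hζ⟩ := IsCyclic.exists_generator (α := Fˣ)
  have hord : orderOf ζ = Fintype.card F - 1 := by
    rw [orderOf_eq_card_of_forall_mem_zpowers hζ, Nat.card_eq_fintype_card, Fintype.card_units]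
  let h : Matrix.SpecialLinearGroup (Fin 2) F :=
    ⟨Matrix.diagonal ![(ζ : F), ((ζ⁻¹ : Fˣ) : F)], by simp⟩
  have hpow : ∀ n : ℕ, (h : Matrix (Fin 2) (Fin 2) F) ^ n
      = Matrix.diagonal ![(ζ : F) ^ n, ((ζ⁻¹ : Fˣ) : F) ^ n] := by
    intro n
    show (Matrix.diagonal ![(ζ : F), ((ζ⁻¹ : Fˣ) : F)]) ^ n = _
    rw [Matrix.diagonal_pow]
    congr 1
    ext i
    fin_cases i <;> simp
  refine ⟨QuotientGroup.mk h, orderOf_eq_of_pow_iff _ a (fun n => ?_)⟩
  rw [psl_pow_eq_one_iff, hpow, ← ha, ← hord, orderOf_dvd_iff_pow_eq_one]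
  have h1 : ((ζ : F) ^ n = ((ζ⁻¹ : Fˣ) : F) ^ n) ↔ ζ ^ (2 * n) = 1 := by
    rw [← Units.val_pow_eq_pow_val, ← Units.val_pow_eq_pow_val, Units.val_inj, inv_pow,
      eq_inv_iff_mul_eq_one, ← pow_add, two_mul]
  rw [← h1]
  simp [IsScalar2]

theorem mem_range_of_pow_card_eq [Fintype F] {E : Type*} [Field E] (φ : F →+* E) (x : E)
    (hx : x ^ Fintype.card F = x) : ∃ y : F, φ y = x := by
  classical
  let P : Polynomial E := Polynomial.X ^ Fintype.card F - Polynomial.X
  have hP : P ≠ 0 := FiniteField.X_pow_card_sub_X_ne_zero E Fintype.one_lt_card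
  have hdeg : P.natDegree = Fintype.card F :=
    FiniteField.X_pow_card_sub_X_natDegree_eq E Fintype.one_lt_card
  let S : Finset E := Finset.univ.image φ
  have hS : S.card = Fintype.card F := by
    rw [Finset.card_image_of_injective _ φ.injective, Finset.card_univ]
  have hsub : S ⊆ P.roots.toFinset := by
    intro z hz
    obtain ⟨y, -, rfl⟩ := Finset.mem_image.mp hz
    rw [Multiset.mem_toFinset, Polynomial.mem_roots hP]
    simp [P, Polynomial.IsRoot, ← map_pow, FiniteField.pow_card]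
  have hle : P.roots.toFinset.card ≤ S.card := by
    rw [hS, ← hdeg]
    exact (Multiset.toFinset_card_le _).trans (Polynomial.card_roots' P)
  have heq : S = P.roots.toFinset := Finset.eq_of_subset_of_card_le hsub hle
  have hxr : x ∈ P.roots.toFinset := by
    rw [Multiset.mem_toFinset, Polynomial.mem_roots hP]
    simp [P, Polynomial.IsRoot, hx]
  rw [← heq] at hxr
  obtain ⟨y, -, hy⟩ := Finset.mem_image.mp hxr
  exact ⟨y, hy⟩

theorem psl2_exists_order_b [Fintype F] (p f : ℕ) [Fact p.Prime] [CharP F p]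
    (hq : Fintype.card F = p ^ f) (b : ℕ)
    (hb : ∀ n, (Fintype.card F + 1) ∣ 2 * n ↔ b ∣ n) :
    ∃ x : Matrix.ProjectiveSpecialLinearGroup (Fin 2) F, orderOf x = b := by
  classical
  let φ : F →+* AlgebraicClosure F := algebraMap F (AlgebraicClosure F)
  have : CharP (AlgebraicClosure F) p := charP_of_injective_algebraMap φ.injective p
  have hq2 : 2 ≤ Fintype.card F := Fintype.one_lt_card
  have hne0 : NeZero ((Fintype.card F + 1 : ℕ) : F) := by
    refine ⟨?_⟩
    rw [Nat.cast_add, FiniteField.cast_card_eq_zero, zero_add, Nat.cast_one]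
    exact one_ne_zero
  obtain ⟨ν, hν⟩ := HasEnoughRootsOfUnity.exists_primitiveRoot (AlgebraicClosure F)
    (Fintype.card F + 1)
  have hν0 : ν ≠ 0 := hν.ne_zero (by omega)
  have hνpow : ν ^ Fintype.card F = ν⁻¹ := by
    have := hν.pow_eq_one
    rw [pow_succ] at this
    exact eq_inv_of_mul_eq_one_left this
  have hfix : (ν + ν⁻¹) ^ Fintype.card F = ν + ν⁻¹ := by
    rw [hq, add_pow_char_pow, ← hq, inv_pow, hνpow, inv_inv, add_comm]
  obtain ⟨t, ht⟩ := mem_range_of_pow_card_eq φ _ hfix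
  let c : Matrix.SpecialLinearGroup (Fin 2) F := ⟨!![0, -1; 1, t], by simp [Matrix.det_fin_two]⟩
  set A := φ.mapMatrix (c : Matrix (Fin 2) (Fin 2) F) with hAdef
  have hdet : A.det = 1 := by rw [hAdef, ← RingHom.map_det, c.det_coe, map_one]
  have htr : A.trace = ν + ν⁻¹ := by
    rw [Matrix.trace_fin_two, hAdef]; simp [c, ht]
  have hlm : ν * ν⁻¹ = 1 := mul_inv_cancel₀ hν0
  have hA : A * A = (ν + ν⁻¹) • A - 1 := by rw [cayley2 A hdet, htr]
  have hne : ν ≠ ν⁻¹ := by
    intro h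
    have h2 : ν ^ 2 = 1 := by
      rw [pow_two]; nth_rewrite 2 [h]; exact hlm
    have h3 := (hν.pow_eq_one_iff_dvd 2).mp h2
    have h4 := Nat.le_of_dvd (by norm_num) h3
    omega
  have hA10 : A 1 0 = 1 := by rw [hAdef]; simp [c]
  refine ⟨QuotientGroup.mk c, orderOf_eq_of_pow_iff _ b (fun n => ?_)⟩
  rw [psl_pow_eq_one_iff, ← hb, ← hν.pow_eq_one_iff_dvd]
  constructor
  · intro hsc
    have h10 : (A ^ n) 1 0 = 0 := by
      rw [hAdef, ← map_pow]
      simp only [RingHom.mapMatrix_apply, Matrix.map_apply]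
      rw [hsc.2.1, map_zero]
    have hf := congrFun (congrFun (pow_formula A ν ν⁻¹ hlm hA n) 1) 0
    simp only [Matrix.add_apply, Matrix.smul_apply, smul_eq_mul, h10, hA10, mul_zero,
      Matrix.one_apply_ne (show (1 : Fin 2) ≠ 0 by decide), add_zero, mul_one] at hf
    have h3 : ν ^ n = ν⁻¹ ^ n := sub_eq_zero.mp hf.symm
    rw [two_mul, pow_add]
    nth_rewrite 2 [h3]
    rw [← mul_pow, hlm, one_pow]
  · intro h2n
    have h3 := pow_eq_pow_of_sq ν ν⁻¹ hlm n h2n
    have h4 := pow_scalar_of_eq A ν ν⁻¹ hlm hA hne n h3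
    apply isScalar2_of_map φ _ (ν⁻¹ ^ n)
    rw [map_pow]; exact h4

/-- The set of element orders of `PSL(2, F)`. -/
theorem psl2_spectrum [Fintype F] (p f : ℕ) [Fact p.Prime] [CharP F p]
    (hq : Fintype.card F = p ^ f) (a b : ℕ)
    (ha : ∀ n, (Fintype.card F - 1) ∣ 2 * n ↔ a ∣ n)
    (hb : ∀ n, (Fintype.card F + 1) ∣ 2 * n ↔ b ∣ n) :
    Set.range (orderOf : Matrix.ProjectiveSpecialLinearGroup (Fin 2) F → ℕ)
      = {n | n ∣ p ∨ n ∣ a ∨ n ∣ b} := by
  have hq2 : 2 ≤ Fintype.card F := Fintype.one_lt_card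
  have ha0 : a ≠ 0 := by
    intro h
    have := (ha (Fintype.card F - 1)).mp (Dvd.intro_left 2 rfl)
    rw [h, zero_dvd_iff] at this
    omega
  have hb0 : b ≠ 0 := by
    intro h
    have := (hb (Fintype.card F + 1)).mp (Dvd.intro_left 2 rfl)
    rw [h, zero_dvd_iff] at this
    omega
  ext n
  simp only [Set.mem_range, Set.mem_ofPred_eq]
  constructor
  · rintro ⟨x, rfl⟩
    obtain ⟨g, rfl⟩ := QuotientGroup.mk_surjective x
    have ha' : (p ^ f - 1) ∣ 2 * a := by rw [← hq]; exact (ha a).mpr dvd_rfl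
    have hb' : (p ^ f + 1) ∣ 2 * b := by rw [← hq]; exact (hb b).mpr dvd_rfl
    rcases sl2_pow_scalar p f hq a b ha' hb' g with h | h | h
    · exact Or.inl (orderOf_dvd_of_pow_eq_one ((psl_pow_eq_one_iff g p).mpr h))
    · exact Or.inr (Or.inl (orderOf_dvd_of_pow_eq_one ((psl_pow_eq_one_iff g a).mpr h)))
    · exact Or.inr (Or.inr (orderOf_dvd_of_pow_eq_one ((psl_pow_eq_one_iff g b).mpr h)))
  · rintro (h | h | h)
    · obtain ⟨x, hx⟩ := psl2_exists_order_p (F := F) p
      exact exists_of_dvd_orderOf x (by rw [hx]; exact (Fact.out : p.Prime).ne_zero)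
        (by rw [hx]; exact h)
    · obtain ⟨x, hx⟩ := psl2_exists_order_a a ha
      exact exists_of_dvd_orderOf x (by rw [hx]; exact ha0) (by rw [hx]; exact h)
    · obtain ⟨x, hx⟩ := psl2_exists_order_b p f hq b hb
      exact exists_of_dvd_orderOf x (by rw [hx]; exact hb0) (by rw [hx]; exact h)

end SL2

end Cfsg.Agent.Lib.Helper59
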