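import Mathlib
import Cfsg.Prelude.Def_OddOrderLocal
import Cfsg.Agent.Lib.Helper59.PSL2Spec

set_option autoImplicit false
open Cfsg

namespace Cfsg.Agent.Lib.Helper59

open Matrix

theorem comm_trans2 {F : Type*} [Field F] (A B C : Matrix (Fin 2) (Fin 2) F) (hB : ¬ IsScalar2 B)
    (hAB : A * B = B * A) (hCB : C * B = B * C) : A * C = C * A := by
  have e00 := congrFun (congrFun hAB 0) 0
  have e01 := congrFun (congrFun hAB 0) 1
  have e10 := congrFun (congrFun hAB 1) 0
  have f00 := congrFun (congrFun hCB 0) 0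
  have f01 := congrFun (congrFun hCB 0) 1
  have f10 := congrFun (congrFun hCB 1) 0
  simp only [Matrix.mul_apply, Fin.sum_univ_two] at e00 e01 e10 f00 f01 f10
  unfold IsScalar2 at hB
  have key : 
      (A 0 1 * C 1 0 - C 0 1 * A 1 0) = 0 →
      (C 0 1 * (A 0 0 - A 1 1) - A 0 1 * (C 0 0 - C 1 1)) = 0 →
      (C 1 0 * (A 0 0 - A 1 1) - A 1 0 * (C 0 0 - C 1 1)) = 0 → A * C = C * A := by
    intro h1' h2' h3'
    ext i j
    fin_cases i <;> fin_cases j <;> simp only [Matrix.mul_apply, Fin.sum_univ_two, Fin.zero_eta, Fin.mk_one]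
    · linear_combination h1'
    · linear_combination h2'
    · linear_combination -h3'
    · linear_combination -h1'
  have cancel : ∀ b x : F, b ≠ 0 → b * x = 0 → x = 0 := fun b x hb h =>
    (mul_eq_zero.mp h).resolve_left hb
  by_cases h01 : B 0 1 = 0
  · by_cases h10 : B 1 0 = 0
    · have hd : B 0 0 - B 1 1 ≠ 0 := fun h => hB ⟨h01, h10, sub_eq_zero.mp h⟩
      have hG2 : (C 0 1 * (A 0 0 - A 1 1) - A 0 1 * (C 0 0 - C 1 1)) = 0 := by
        apply cancel _ _ hd
        linear_combination -(A 0 0 - A 1 1) * f01 + (C 0 0 - C 1 1) * e01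
      have hG3 : (C 1 0 * (A 0 0 - A 1 1) - A 1 0 * (C 0 0 - C 1 1)) = 0 := by
        apply cancel _ _ hd
        linear_combination (A 0 0 - A 1 1) * f10 - (C 0 0 - C 1 1) * e10
      have hG1 : (A 0 1 * C 1 0 - C 0 1 * A 1 0) = 0 := by
        apply cancel _ _ hd
        linear_combination (A 0 1) * f10 - (C 0 1) * e10 - (B 1 0) * hG2
      exact key hG1 hG2 hG3
    · have hG1 : (A 0 1 * C 1 0 - C 0 1 * A 1 0) = 0 := by
        apply cancel _ _ h10
        linear_combination (C 1 0) * e00 - (A 1 0) * f00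
      have hG3 : (C 1 0 * (A 0 0 - A 1 1) - A 1 0 * (C 0 0 - C 1 1)) = 0 := by
        apply cancel _ _ h10
        linear_combination -(C 1 0) * e10 + (A 1 0) * f10
      have hG2 : (C 0 1 * (A 0 0 - A 1 1) - A 0 1 * (C 0 0 - C 1 1)) = 0 := by
        apply cancel _ _ h10
        linear_combination (B 0 1) * hG3 + (A 0 0 - A 1 1) * f00 - (C 0 0 - C 1 1) * e00
      exact key hG1 hG2 hG3
  · have hG1 : (A 0 1 * C 1 0 - C 0 1 * A 1 0) = 0 := by
      apply cancel _ _ h01
      linear_combination (-A 0 1) * f00 + (C 0 1) * e00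
    have hG2 : (C 0 1 * (A 0 0 - A 1 1) - A 0 1 * (C 0 0 - C 1 1)) = 0 := by
      apply cancel _ _ h01
      linear_combination (C 0 1) * e01 - (A 0 1) * f01
    have hG3 : (C 1 0 * (A 0 0 - A 1 1) - A 1 0 * (C 0 0 - C 1 1)) = 0 := by
      apply cancel _ _ h01
      linear_combination (B 1 0) * hG2 - (A 0 0 - A 1 1) * f00 + (C 0 0 - C 1 1) * e00
    exact key hG1 hG2 hG3

/-- in characteristic 2 the centre of SL₂ is trivial -/
theorem sl2_center_char2 {F : Type*} [Field F] [CharP F 2] :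
    Subgroup.center (Matrix.SpecialLinearGroup (Fin 2) F) = ⊥ := by
  rw [Subgroup.eq_bot_iff_forall]
  intro g hg
  rw [mem_center_sl2_iff] at hg
  obtain ⟨h01, h10, h00⟩ := hg
  have hdet := g.det_coe
  rw [Matrix.det_fin_two, h01, ← h00, zero_mul, sub_zero] at hdet
  have h1 : (g 0 0 - 1) * (g 0 0 - 1) = 0 := by
    have h2 : (2 : F) = 0 := by exact_mod_cast CharP.cast_eq_zero F 2
    linear_combination hdet + (1 - g 0 0) * h2
  have h3 : g 0 0 = 1 := sub_eq_zero.mp (mul_self_eq_zero.mp h1)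
  ext i j
  fin_cases i <;> fin_cases j <;> simp [h01, h10, h3, ← h00]

/-- commuting is transitive through non-identity elements of `PSL₂(F)`, `char F = 2` -/
theorem psl2_char2_comm_trans {F : Type*} [Field F] [CharP F 2]
    (a b c : Matrix.ProjectiveSpecialLinearGroup (Fin 2) F) (hb : b ≠ 1)
    (hab : a * b = b * a) (hcb : c * b = b * c) : a * c = c * a := by
  obtain ⟨A, rfl⟩ := QuotientGroup.mk_surjective a
  obtain ⟨B, rfl⟩ := QuotientGroup.mk_surjective b
  obtain ⟨C, rfl⟩ := QuotientGroup.mk_surjective c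
  have hinj : ∀ X Y : Matrix.SpecialLinearGroup (Fin 2) F,
      (QuotientGroup.mk X : Matrix.ProjectiveSpecialLinearGroup (Fin 2) F) = QuotientGroup.mk Y →
        X = Y := by
    intro X Y h
    rw [QuotientGroup.eq, sl2_center_char2, Subgroup.mem_bot] at h
    exact (inv_mul_eq_one.mp h)
  have hB : ¬ IsScalar2 (B : Matrix (Fin 2) (Fin 2) F) := by
    intro h
    apply hb
    rw [QuotientGroup.eq_one_iff, mem_center_sl2_iff]
    exact h
  have h1 : A * B = B * A := hinj _ _ (by simpa using hab)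
  have h2 : C * B = B * C := hinj _ _ (by simpa using hcb)
  have h3 := comm_trans2 (A : Matrix (Fin 2) (Fin 2) F) B C hB
    (by rw [← Matrix.SpecialLinearGroup.coe_mul, h1, Matrix.SpecialLinearGroup.coe_mul])
    (by rw [← Matrix.SpecialLinearGroup.coe_mul, h2, Matrix.SpecialLinearGroup.coe_mul])
  have h4 : A * C = C * A := by
    apply Subtype.ext
    simpa using h3
  rw [← QuotientGroup.mk_mul, h4, QuotientGroup.mk_mul]

theorem psl2_char2_centralizer_ti {F : Type*} [Field F] [CharP F 2]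
    (x : Matrix.ProjectiveSpecialLinearGroup (Fin 2) F) :
    Cfsg.IsTISubset (Subgroup.centralizer ({x} : Set (Matrix.ProjectiveSpecialLinearGroup (Fin 2) F)) :
      Set (Matrix.ProjectiveSpecialLinearGroup (Fin 2) F)) := by
  intro g hg y hy hgy
  by_contra hy1
  apply hg
  have hmem : ∀ z : Matrix.ProjectiveSpecialLinearGroup (Fin 2) F,
      z ∈ Subgroup.centralizer ({x} : Set (Matrix.ProjectiveSpecialLinearGroup (Fin 2) F))
        ↔ x * z = z * x := by
    intro z
    rw [Subgroup.mem_centralizer_iff]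
    simp
  have hy := (hmem y).mp (SetLike.mem_coe.mp hy)
  have hgy := (hmem _).mp (SetLike.mem_coe.mp hgy)
  rw [Subgroup.mem_normalizer_iff]
  intro z
  rw [hmem, hmem]
  by_cases hx : x = 1
  · subst hx; simp
  have hgy1 : g * y * g⁻¹ ≠ 1 := by
    intro h
    apply hy1
    have : y = g⁻¹ * (g * y * g⁻¹) * g := by group
    rw [this, h]; group
  constructor
  · intro hz
    -- z ~ x ~ y so z ~ y
    have h1 : z * y = y * z := psl2_char2_comm_trans z x y hx hz.symm hy.symm
    have h2 : (g * z * g⁻¹) * (g * y * g⁻¹) = (g * y * g⁻¹) * (g * z * g⁻¹) := by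
      have e1 : (g * z * g⁻¹) * (g * y * g⁻¹) = g * (z * y) * g⁻¹ := by group
      have e2 : (g * y * g⁻¹) * (g * z * g⁻¹) = g * (y * z) * g⁻¹ := by group
      rw [e1, e2, h1]
    exact (psl2_char2_comm_trans (g * z * g⁻¹) (g * y * g⁻¹) x hgy1 h2 hgy).symm
  · intro hz
    have h1 : (g * z * g⁻¹) * (g * y * g⁻¹) = (g * y * g⁻¹) * (g * z * g⁻¹) :=
      psl2_char2_comm_trans (g * z * g⁻¹) x (g * y * g⁻¹) hx hz.symm hgy.symm
    have h2 : z * y = y * z := by
      have e1 : z * y = g⁻¹ * ((g * z * g⁻¹) * (g * y * g⁻¹)) * g := by group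
      have e2 : y * z = g⁻¹ * ((g * y * g⁻¹) * (g * z * g⁻¹)) * g := by group
      rw [e1, e2, h1]
    exact (psl2_char2_comm_trans z y x hy1 h2 hy).symm

end Cfsg.Agent.Lib.Helper59
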