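import Mathlib
import Cfsg.Agent.Lib.Helper59.Derange
import Cfsg.Agent.Lib.Helper61.MinNormal

set_option autoImplicit false

namespace Cfsg.Agent.Lib.Helper59.DerP

open MulAction

/-- Jordan's lemma: a proper subgroup of a finite group misses some conjugacy class. -/
theorem jordan_conj {T : Type*} [Group T] [Finite T] (R : Subgroup T) (hR : R ≠ ⊤) :
    ∃ x : T, ∀ s : T, s⁻¹ * x * s ∉ R := by
  by_contra hcon
  push Not at hcon
  have hempty : {g : T | ∀ ω : T ⧸ R, g • ω ≠ ω} = ∅ := by
    ext g
    simp only [Set.mem_ofPred_eq, Set.mem_empty_iff_false, iff_false]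
    intro hg
    obtain ⟨s, hs⟩ := hcon g
    apply hg (s : T ⧸ R)
    rw [MulAction.Quotient.smul_mk, QuotientGroup.eq]
    have : (g • s)⁻¹ * s = (s⁻¹ * g * s)⁻¹ := by rw [smul_eq_mul]; group
    rw [this]; exact R.inv_mem hs
  have h1 := (Cfsg.Agent.Lib.Helper59.der_main T (T ⧸ R)).1
  have h2 : derSub T (T ⧸ R) = ⊥ := by
    show Subgroup.closure {g : T | ∀ ω : T ⧸ R, g • ω ≠ ω} = ⊥
    rw [hempty, Subgroup.closure_empty]
  apply hR
  rw [Subgroup.eq_top_iff']
  intro t
  obtain ⟨g, hg⟩ := h1.exists_smul_eq ((1 : T) : T ⧸ R) (t : T ⧸ R)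
  have hg1 : (g : T) = 1 := by
    have hle : derSub T (T ⧸ R) ≤ ⊥ := le_of_eq h2
    have := hle g.2
    rw [Subgroup.mem_bot] at this
    exact this
  have hg' : (g : T) • ((1 : T) : T ⧸ R) = (t : T ⧸ R) := hg
  rw [hg1, one_smul, QuotientGroup.eq] at hg'
  simpa using hg'

theorem conj_mulSingle {ι : Type*} [DecidableEq ι] {T : Type*} [Group T] (f : ι → T) (i : ι)
    (t : T) : f⁻¹ * Pi.mulSingle i t * f = Pi.mulSingle i ((f i)⁻¹ * t * f i) := by
  funext j
  by_cases h : j = i
  · subst h; simp
  · simp [Pi.mulSingle_eq_of_ne h]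

theorem isPGroup_simple_comm {T : Type*} [Group T] [Finite T] [IsSimpleGroup T] (p : ℕ)
    [Fact p.Prime] (h : IsPGroup p T) : IsMulCommutative T := by
  have hnt : Nontrivial (Subgroup.center T) := h.center_nontrivial
  have hne : Subgroup.center T ≠ ⊥ := by
    intro hb
    obtain ⟨a, b, hab⟩ := hnt
    apply hab
    have hle : Subgroup.center T ≤ ⊥ := le_of_eq hb
    have ha := hle a.2
    have hb' := hle b.2
    rw [Subgroup.mem_bot] at ha hb'
    exact Subtype.ext (ha.trans hb'.symm)
  have htop : Subgroup.center T = ⊤ :=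
    (Subgroup.Normal.eq_bot_or_eq_top inferInstance).resolve_left hne
  refine ⟨⟨fun a b => ?_⟩⟩
  have : a ∈ Subgroup.center T := by rw [htop]; trivial
  exact (Subgroup.mem_center_iff.1 this b).symm

theorem main {G Ω : Type*} [Group G] [Finite G] [MulAction G Ω] [FaithfulSMul G Ω] [Finite Ω]
    (hprim : MulAction.IsPreprimitive G Ω) (hΩ : 2 ≤ Nat.card Ω) (p : ℕ) (hp : p.Prime)
    (hder : ∀ g : G, (∀ ω : Ω, g • ω ≠ ω) → ∃ k : ℕ, orderOf g = p ^ k) :
    (∃ (N : Subgroup G) (r : ℕ), r.Prime ∧ N.Normal ∧ (IsMulCommutative N ∧ ∀ a ∈ N, a ^ r = 1) ∧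
      MulAction.IsPretransitive N Ω ∧ ∀ a : Ω, MulAction.stabilizer N a = ⊥) ∨
    (∃ T : Subgroup G, T.Normal ∧ IsSimpleGroup ↥T ∧ ¬ IsMulCommutative ↥T ∧
      Subgroup.centralizer (T : Set G) = ⊥) := by
  classical
  have hpF : Fact p.Prime := ⟨hp⟩
  have hfaith : ∀ g : G, (∀ ω : Ω, g • ω = ω) → g = 1 := by
    intro g hg
    apply FaithfulSMul.eq_of_smul_eq_smul (α := Ω)
    intro ω
    rw [hg, one_smul]
  have hΩne : Nonempty Ω := by
    by_contra hcon
    rw [not_nonempty_iff] at hcon
    rw [Nat.card_of_isEmpty] at hΩ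
    omega
  obtain ⟨α⟩ := hΩne
  have htrans : ∀ N : Subgroup G, N.Normal → N ≠ ⊥ → IsPretransitive N Ω := by
    intro N hN hN1
    apply IsQuasiPreprimitive.isPretransitive_of_normal
    intro hfix
    apply hN1
    rw [Subgroup.eq_bot_iff_forall]
    intro n hn
    apply hfaith
    intro ω
    have : ω ∈ fixedPoints N Ω := by rw [hfix]; trivial
    exact this ⟨n, hn⟩
  have hGnt : (⊤ : Subgroup G) ≠ ⊥ := by
    intro htop
    have h1 : ∀ g : G, g = 1 := fun g => by
      have : g ∈ (⊤ : Subgroup G) := trivial
      rw [htop, Subgroup.mem_bot] at this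
      exact this
    have : Nat.card Ω ≤ 1 := by
      rw [Finite.card_le_one_iff_subsingleton]
      refine ⟨fun a b => ?_⟩
      obtain ⟨g, hg⟩ := hprim.toIsPretransitive.exists_smul_eq a b
      rw [h1 g, one_smul] at hg
      exact hg
    omega
  obtain ⟨N, ⟨hNn, hN1⟩, hNmin'⟩ := Set.exists_min_image {S : Subgroup G | S.Normal ∧ S ≠ ⊥}
    (fun S => Nat.card S) (Set.toFinite _) ⟨⊤, inferInstance, hGnt⟩
  have hmin : ∀ M : Subgroup G, M.Normal → M ≤ N → M = ⊥ ∨ M = N := by
    intro M hM hMN
    by_cases hM1 : M = ⊥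
    · exact Or.inl hM1
    · right
      exact Subgroup.eq_of_le_of_card_ge hMN (hNmin' M ⟨hM, hM1⟩)
  have hNt : IsPretransitive N Ω := htrans N hNn hN1
  by_cases hab : IsMulCommutative N
  · left
    have hcomm : ∀ a ∈ N, ∀ b ∈ N, a * b = b * a := by
      intro a ha b hb
      have := hab.is_comm.comm (⟨a, ha⟩ : N) ⟨b, hb⟩
      exact congrArg Subtype.val this
    have hcard : 1 < Nat.card N := by rwa [Subgroup.one_lt_card_iff_ne_bot]
    obtain ⟨r, hr, hrdvd⟩ := Nat.exists_prime_and_dvd (Nat.ne_of_gt hcard)
    have hrF : Fact r.Prime := ⟨hr⟩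
    obtain ⟨x, hx⟩ := exists_prime_orderOf_dvd_card' r hrdvd
    let M : Subgroup G :=
      { carrier := {a | a ∈ N ∧ a ^ r = 1}
        mul_mem' := by
          rintro a b ⟨ha, ha1⟩ ⟨hb, hb1⟩
          refine ⟨N.mul_mem ha hb, ?_⟩
          rw [(show Commute a b from hcomm a ha b hb).mul_pow, ha1, hb1, one_mul]
        one_mem' := ⟨N.one_mem, one_pow r⟩
        inv_mem' := by
          rintro a ⟨ha, ha1⟩
          exact ⟨N.inv_mem ha, by rw [inv_pow, ha1, inv_one]⟩ }
    have hMn : M.Normal := by
      refine ⟨fun a ha g => ?_⟩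
      obtain ⟨ha, ha1⟩ := ha
      refine ⟨hNn.conj_mem a ha g, ?_⟩
      rw [conj_pow, ha1, mul_one, mul_inv_cancel]
    have hMN : M ≤ N := fun a ha => ha.1
    have hM1 : M ≠ ⊥ := by
      intro hM
      have hxM : (x : G) ∈ M := by
        refine ⟨x.2, ?_⟩
        have := pow_orderOf_eq_one x
        rw [hx] at this
        exact congrArg Subtype.val this
      rw [hM, Subgroup.mem_bot] at hxM
      have : x = 1 := Subtype.ext hxM
      rw [this, orderOf_one] at hx
      exact hr.one_lt.ne hx
    have hMeq : M = N := (hmin M hMn hMN).resolve_left hM1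
    refine ⟨N, r, hr, hNn, ⟨hab, fun a ha => ?_⟩, hNt, fun a => ?_⟩
    · have : a ∈ M := by rw [hMeq]; exact ha
      exact this.2
    · rw [Subgroup.eq_bot_iff_forall]
      intro n hn
      rw [mem_stabilizer_iff] at hn
      have h1 : (n : G) = 1 := by
        apply hfaith
        intro ω
        obtain ⟨m, hm⟩ := hNt.exists_smul_eq a ω
        rw [← hm]
        show (n : G) • ((m : G) • a) = (m : G) • a
        rw [smul_smul, hcomm n n.2 m m.2, ← smul_smul]
        exact congrArg (fun z => (m : G) • z) hn
      exact Subtype.ext h1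
  · right
    have hCn : (Subgroup.centralizer (N : Set G)).Normal := Subgroup.normal_centralizer
    have hNC : N ⊓ Subgroup.centralizer (N : Set G) = ⊥ := by
      have hn : (N ⊓ Subgroup.centralizer (N : Set G)).Normal := inferInstance
      rcases hmin _ hn inf_le_left with h | h
      · exact h
      · exfalso
        apply hab
        refine ⟨⟨fun a b => ?_⟩⟩
        have ha : (a : G) ∈ Subgroup.centralizer (N : Set G) := by
          have : (a : G) ∈ N ⊓ Subgroup.centralizer (N : Set G) := by rw [h]; exact a.2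
          exact this.2
        rw [Subgroup.mem_centralizer_iff] at ha
        exact Subtype.ext (ha b b.2).symm
    have hC : Subgroup.centralizer (N : Set G) = ⊥ := by
      by_contra hC1
      have hCt : IsPretransitive (Subgroup.centralizer (N : Set G)) Ω := htrans _ hCn hC1
      have hNp : IsPGroup p N := by
        rw [IsPGroup.iff_orderOf]
        intro n
        by_cases hn1 : n = 1
        · exact ⟨0, by rw [hn1, orderOf_one, pow_zero]⟩
        · have hd : ∀ ω : Ω, (n : G) • ω ≠ ω := by
            intro ω hω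
            apply hn1
            have : (n : G) = 1 := by
              apply hfaith
              intro ω'
              obtain ⟨c, hc⟩ := hCt.exists_smul_eq ω ω'
              rw [← hc]
              show (n : G) • ((c : G) • ω) = (c : G) • ω
              have hcn : (n : G) * c = c * n := Subgroup.mem_centralizer_iff.1 c.2 n n.2
              rw [smul_smul, hcn, ← smul_smul, hω]
            exact Subtype.ext this
          obtain ⟨k, hk⟩ := hder n hd
          exact ⟨k, by rw [← hk, Subgroup.orderOf_coe]⟩
      have hNnt : Nontrivial N := (Subgroup.nontrivial_iff_ne_bot N).2 hN1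
      have hcnt : Nontrivial (Subgroup.center N) := hNp.center_nontrivial
      obtain ⟨z, hz1⟩ := exists_ne (1 : Subgroup.center N)
      have hzc : ((z : N) : G) ∈ N ⊓ Subgroup.centralizer (N : Set G) := by
        refine ⟨(z : N).2, ?_⟩
        show ((z : N) : G) ∈ Subgroup.centralizer (N : Set G)
        rw [Subgroup.mem_centralizer_iff]
        intro h hh
        have := Subgroup.mem_center_iff.1 z.2 ⟨h, hh⟩
        exact congrArg Subtype.val this
      rw [hNC, Subgroup.mem_bot] at hzc
      apply hz1
      exact Subtype.ext (Subtype.ext hzc)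
    obtain ⟨T₀, m, hsimp, hm, ⟨e⟩⟩ := Cfsg.Agent.Lib.Helper61.minNormal_aux N hN1 hmin
    have hT₀nc : ¬ IsMulCommutative T₀ := by
      intro hT
      apply hab
      refine ⟨⟨fun a b => ?_⟩⟩
      apply e.injective
      rw [map_mul, map_mul]
      funext i
      exact hT.is_comm.comm _ _
    have hT₀p : ¬ IsPGroup p T₀ := fun h => hT₀nc (isPGroup_simple_comm p h)
    by_cases hm1 : m = 1
    · subst hm1
      have e' : N ≃* T₀ := e.trans (MulEquiv.piUnique (fun _ : Fin 1 => T₀))
      exact ⟨N, hNn, e'.isSimpleGroup, hab, hC⟩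
    · exfalso
      have hm2 : 2 ≤ m := by omega
      let i0 : Fin m := ⟨0, by omega⟩
      let i1 : Fin m := ⟨1, by omega⟩
      have hi : i1 ≠ i0 := by
        intro h
        have := congrArg Fin.val h
        simp [i0, i1] at this
      have hDP : ∀ x : N, (∀ n : N, n⁻¹ * x * n ∉ stabilizer N α) → ∃ k : ℕ, x ^ p ^ k = 1 := by
        intro x hx
        have hd : ∀ ω : Ω, (x : G) • ω ≠ ω := by
          intro ω hω
          obtain ⟨n, hn⟩ := hNt.exists_smul_eq α ω
          apply hx n
          rw [mem_stabilizer_iff, mul_smul, mul_smul, hn]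
          have : x • ω = ω := hω
          rw [this, ← hn, inv_smul_smul]
        obtain ⟨k, hk⟩ := hder x hd
        refine ⟨k, ?_⟩
        have := pow_orderOf_eq_one (x : G)
        rw [hk] at this
        exact Subtype.ext this
      apply hT₀p
      let ev : N →* T₀ := (Pi.evalMonoidHom (fun _ : Fin m => T₀) i0).comp e.toMonoidHom
      have hev : ∀ n : N, ev n = e n i0 := fun n => rfl
      let R : Subgroup T₀ := (stabilizer N α).map ev
      have hconj : ∀ (n : N) (t : T₀), n⁻¹ * e.symm (Pi.mulSingle i0 t) * n =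
          e.symm (Pi.mulSingle i0 ((e n i0)⁻¹ * t * e n i0)) := by
        intro n t
        apply e.injective
        rw [map_mul, map_mul, map_inv, e.apply_symm_apply, e.apply_symm_apply, conj_mulSingle]
      by_cases hR : R = ⊤
      · let K : Subgroup T₀ := (stabilizer N α).comap
          (e.symm.toMonoidHom.comp (MonoidHom.mulSingle (fun _ : Fin m => T₀) i0))
        have hKmem : ∀ t : T₀, t ∈ K ↔ e.symm (Pi.mulSingle i0 t) ∈ stabilizer N α :=
          fun t => Iff.rfl
        have hKn : K.Normal := by
          refine ⟨fun t ht s => ?_⟩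
          have hs : s⁻¹ ∈ R := by rw [hR]; trivial
          obtain ⟨n, hn, hns⟩ := hs
          rw [hKmem] at ht ⊢
          have h1 := hconj n t
          have h2 : e n i0 = s⁻¹ := hns
          rw [h2, inv_inv] at h1
          rw [← h1]
          exact (stabilizer N α).mul_mem ((stabilizer N α).mul_mem ((stabilizer N α).inv_mem hn) ht) hn
        rcases hKn.eq_bot_or_eq_top with hK | hK
        · intro t
          by_cases ht1 : t = 1
          · exact ⟨0, by rw [ht1]; simp⟩
          · have := hDP (e.symm (Pi.mulSingle i0 t)) (fun n hn => by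
              rw [hconj] at hn
              have h3 : (e n i0)⁻¹ * t * e n i0 ∈ K := hn
              rw [hK, Subgroup.mem_bot] at h3
              apply ht1
              have : t = e n i0 * ((e n i0)⁻¹ * t * e n i0) * (e n i0)⁻¹ := by group
              rw [this, h3]; group)
            obtain ⟨k, hk⟩ := this
            refine ⟨k, ?_⟩
            have h4 := congrArg (fun f => e f i0) hk
            simp only [map_pow, e.apply_symm_apply, Pi.pow_apply, Pi.mulSingle_eq_same, map_one,
              Pi.one_apply] at h4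
            exact h4
        · exfalso
          have hall : ∀ t : T₀, e.symm (Pi.mulSingle i0 t) = 1 := by
            intro t
            have : ((e.symm (Pi.mulSingle i0 t) : N) : G) = 1 := by
              apply hfaith
              intro ω
              obtain ⟨n, hn⟩ := hNt.exists_smul_eq α ω
              have h5 : n⁻¹ * e.symm (Pi.mulSingle i0 t) * n ∈ stabilizer N α := by
                rw [hconj]
                have : (e n i0)⁻¹ * t * e n i0 ∈ K := by rw [hK]; trivial
                exact this
              rw [mem_stabilizer_iff, mul_smul, mul_smul, hn] at h5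
              have h6 : e.symm (Pi.mulSingle i0 t) • ω = n • α := by
                rw [← h5, smul_inv_smul]
              rw [hn] at h6
              exact h6
            exact Subtype.ext this
          obtain ⟨t, ht⟩ := exists_ne (1 : T₀)
          apply ht
          have h7 := hall t
          have h8 := congrArg (fun f => e f i0) h7
          simpa using h8
      · obtain ⟨x, hx⟩ := jordan_conj R hR
        intro y
        have := hDP (e.symm (Pi.mulSingle i0 x * Pi.mulSingle i1 y)) (fun n hn => by
          apply hx (e n i0)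
          have h1 : ev (n⁻¹ * e.symm (Pi.mulSingle i0 x * Pi.mulSingle i1 y) * n) ∈ R :=
            Subgroup.mem_map_of_mem _ hn
          have h2 : ev (n⁻¹ * e.symm (Pi.mulSingle i0 x * Pi.mulSingle i1 y) * n) =
              (e n i0)⁻¹ * x * e n i0 := by
            rw [hev]
            simp [Pi.mulSingle_eq_of_ne hi.symm]
          rw [h2] at h1
          exact h1)
        obtain ⟨k, hk⟩ := this
        refine ⟨k, ?_⟩
        have h4 := congrArg (fun f => e f i1) hk
        simp [Pi.mulSingle_eq_of_ne hi] at h4
        exact h4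

end Cfsg.Agent.Lib.Helper59.DerP
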