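import Mathlib
import Cfsg.Agent.Lib.Helper59.Derange

set_option autoImplicit false

namespace Cfsg.Agent.Lib.Helper59

open MulAction
open scoped Pointwise

/-- double counting: `Σ π(g²) ≤ Σ π(g)²` -/
theorem sum_fix_sq_le (G Ω : Type*) [Group G] [Fintype G] [MulAction G Ω] [Finite Ω] :
    ∑ g : G, Nat.card (fixedBy Ω (g * g))
      ≤ ∑ g : G, Nat.card (fixedBy Ω g) * Nat.card (fixedBy Ω g) := by
  classical
  have hX : Nat.card {x : G × Ω // x.1 • x.1 • x.2 = x.2}
      = ∑ g : G, Nat.card (fixedBy Ω (g * g)) := by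
    rw [Nat.card_congr (Equiv.subtypeProdEquivSigmaSubtype
      (fun (g : G) (α : Ω) => g • g • α = α)), Nat.card_sigma]
    apply Finset.sum_congr rfl
    intro g _
    apply Nat.card_congr
    exact Equiv.subtypeEquivRight (fun α => by rw [mem_fixedBy, mul_smul])
  have hY : Nat.card {y : G × (Ω × Ω) // y.1 • y.2.1 = y.2.1 ∧ y.1 • y.2.2 = y.2.2}
      = ∑ g : G, Nat.card (fixedBy Ω g) * Nat.card (fixedBy Ω g) := by
    rw [Nat.card_congr (Equiv.subtypeProdEquivSigmaSubtype
      (fun (g : G) (p : Ω × Ω) => g • p.1 = p.1 ∧ g • p.2 = p.2)), Nat.card_sigma]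
    apply Finset.sum_congr rfl
    intro g _
    rw [← card_fixedBy_prod]
    apply Nat.card_congr
    exact Equiv.subtypeEquivRight (fun p => by
      rw [mem_fixedBy]
      exact ⟨fun h => Prod.ext h.1 h.2, fun h => ⟨congrArg Prod.fst h, congrArg Prod.snd h⟩⟩)
  rw [← hX, ← hY]
  let c : Ω → Ω → G := fun α β =>
    if h : ∃ g₀ : G, g₀ • α = β ∧ g₀ • β = α then h.choose else 1
  have hc : ∀ α β, (∃ g₀ : G, g₀ • α = β ∧ g₀ • β = α) → c α β • α = β ∧ c α β • β = α := by
    intro α β h
    simp only [c, dif_pos h]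
    exact h.choose_spec
  let f : {x : G × Ω // x.1 • x.1 • x.2 = x.2} →
      {y : G × (Ω × Ω) // y.1 • y.2.1 = y.2.1 ∧ y.1 • y.2.2 = y.2.2} := fun x =>
    ⟨((c x.1.2 (x.1.1 • x.1.2))⁻¹ * x.1.1, (x.1.2, x.1.1 • x.1.2)), by
      obtain ⟨h1, h2⟩ := hc x.1.2 (x.1.1 • x.1.2) ⟨x.1.1, rfl, x.2⟩
      constructor
      · show ((c x.1.2 (x.1.1 • x.1.2))⁻¹ * x.1.1) • x.1.2 = x.1.2
        rw [mul_smul, inv_smul_eq_iff, h1]
      · show ((c x.1.2 (x.1.1 • x.1.2))⁻¹ * x.1.1) • (x.1.1 • x.1.2) = x.1.1 • x.1.2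
        rw [mul_smul, x.2, inv_smul_eq_iff, h2]⟩
  apply Nat.card_le_card_of_injective f
  intro x x' h
  have h' := congrArg Subtype.val h
  simp only [f, Prod.mk.injEq] at h'
  obtain ⟨h1, h2, h3⟩ := h'
  apply Subtype.ext
  apply Prod.ext
  · rw [h3, h2] at h1; exact mul_left_cancel h1
  · exact h2


/-- In a transitive faithful action in which every derangement squares to `1`,
every non-identity element has at most one fixed point. -/
theorem derange_invol_fix_le_one {G Ω : Type*} [Group G] [Finite G] [MulAction G Ω]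
    [FaithfulSMul G Ω] [Finite Ω] [Nonempty Ω]
    (htrans : IsPretransitive G Ω) (hinv : ∀ g : G, (∀ ω : Ω, g • ω ≠ ω) → g * g = 1) :
    ∀ g : G, g ≠ 1 → Nat.card (fixedBy Ω g) ≤ 1 := by
  classical
  have : Fintype G := Fintype.ofFinite G
  have hπn : ∀ g : G, Nat.card (fixedBy Ω g) ≤ Nat.card Ω := fun g =>
    Nat.card_le_card_of_injective (Subtype.val) Subtype.val_injective
  have hD0 : ∀ g : G, (∀ ω : Ω, g • ω ≠ ω) → Nat.card (fixedBy Ω g) = 0 := by
    intro g hg
    have : IsEmpty (fixedBy Ω g) := ⟨fun x => hg x.1 x.2⟩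
    exact Nat.card_of_isEmpty
  have hD1 : ∀ g : G, ¬ (∀ ω : Ω, g • ω ≠ ω) → 1 ≤ Nat.card (fixedBy Ω g) := by
    intro g hg
    push Not at hg
    obtain ⟨ω, hω⟩ := hg
    have : Nonempty (fixedBy Ω g) := ⟨⟨ω, hω⟩⟩
    exact Nat.card_pos
  have hsum1 : ∑ g : G, Nat.card (fixedBy Ω g) = Nat.card G := by
    rw [burnside_natCard G Ω]
    have h1 : Nat.card (orbitRel.Quotient G Ω) = 1 := by
      have : Subsingleton (orbitRel.Quotient G Ω) := by
        constructor
        intro a b
        induction a using Quotient.inductionOn' with | _ a => ?_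
        induction b using Quotient.inductionOn' with | _ b => ?_
        apply Quotient.sound'
        exact MulAction.exists_smul_eq G b a
      have : Nonempty (orbitRel.Quotient G Ω) := ⟨Quotient.mk'' (Classical.arbitrary Ω)⟩
      exact Nat.card_unique
    rw [h1, one_mul]
  have hB := sum_fix_sq_le G Ω
  set n := Nat.card Ω with hn
  let d : G → ℕ := fun g => if ∀ ω : Ω, g • ω ≠ ω then 1 else 0
  have hB2 : ∀ g : G, Nat.card (fixedBy Ω g) + n * d g ≤ Nat.card (fixedBy Ω (g * g)) := by
    intro g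
    by_cases hg : ∀ ω : Ω, g • ω ≠ ω
    · have h1 := hinv g hg
      have h2 : Nat.card (fixedBy Ω (g * g)) = n := by
        rw [h1, hn]
        exact Nat.card_congr (Equiv.subtypeUnivEquiv (fun ω => by simp))
      simp only [d, if_pos hg, mul_one, hD0 g hg, zero_add, h2]
      exact le_refl _
    · simp only [d, if_neg hg, mul_zero, add_zero]
      apply Nat.card_le_card_of_injective
        (fun x : fixedBy Ω g => (⟨x.1, by
          have := x.2
          rw [mem_fixedBy] at this ⊢
          rw [mul_smul, this, this]⟩ : fixedBy Ω (g * g)))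
      intro x y h
      have h' := congrArg Subtype.val h
      exact Subtype.ext h'
  have hA2 : ∀ g : G, Nat.card (fixedBy Ω g) * Nat.card (fixedBy Ω g) + n * (1 - d g)
      ≤ (n + 1) * Nat.card (fixedBy Ω g) := by
    intro g
    by_cases hg : ∀ ω : Ω, g • ω ≠ ω
    · simp only [d, if_pos hg, hD0 g hg]
      simp
    · have h1 := hD1 g hg
      have h2 := hπn g
      simp only [d, if_neg hg]
      nlinarith
  have hsumd : ∑ g : G, n * d g + ∑ g : G, n * (1 - d g) = n * Nat.card G := by
    rw [← Finset.sum_add_distrib]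
    have : ∀ g : G, n * d g + n * (1 - d g) = n := by
      intro g
      by_cases hg : ∀ ω : Ω, g • ω ≠ ω
      · simp only [d, if_pos hg]; simp
      · simp only [d, if_neg hg]; simp
    rw [Finset.sum_congr rfl (fun g _ => this g), Finset.sum_const, Finset.card_univ,
      Nat.card_eq_fintype_card, smul_eq_mul, mul_comm]
  have hchain : ∑ g : G, (Nat.card (fixedBy Ω g) * Nat.card (fixedBy Ω g) + n * (1 - d g))
      = ∑ g : G, (n + 1) * Nat.card (fixedBy Ω g) := by
    apply le_antisymm (Finset.sum_le_sum (fun g _ => hA2 g))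
    have e1 : ∑ g : G, (n + 1) * Nat.card (fixedBy Ω g) = n * Nat.card G + Nat.card G := by
      rw [← Finset.mul_sum, hsum1, add_mul, one_mul]
    have e2 : ∑ g : G, (Nat.card (fixedBy Ω g) + n * d g)
        ≤ ∑ g : G, Nat.card (fixedBy Ω g) * Nat.card (fixedBy Ω g) :=
      le_trans (Finset.sum_le_sum (fun g _ => hB2 g)) hB
    rw [Finset.sum_add_distrib, hsum1] at e2
    rw [e1, Finset.sum_add_distrib]
    omega
  have hterm := (Finset.sum_eq_sum_iff_of_le (fun g _ => hA2 g)).mp hchain
  intro g hg1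
  have hg := hterm g (Finset.mem_univ g)
  by_cases hgD : ∀ ω : Ω, g • ω ≠ ω
  · rw [hD0 g hgD]; exact Nat.zero_le _
  · simp only [d, if_neg hgD] at hg
    have h1 := hD1 g hgD
    have h2 := hπn g
    have h3 : Nat.card (fixedBy Ω g) = 1 ∨ Nat.card (fixedBy Ω g) = n := by
      by_contra hcon
      push Not at hcon
      have h4 : 1 < Nat.card (fixedBy Ω g) := by omega
      have h5 : Nat.card (fixedBy Ω g) < n := by omega
      nlinarith
    rcases h3 with h3 | h3
    · exact h3.le
    · exfalso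
      apply hg1
      apply FaithfulSMul.eq_of_smul_eq_smul (α := Ω)
      intro ω
      rw [one_smul]
      have h6 : fixedBy Ω g = Set.univ := by
        apply Set.eq_of_subset_of_ncard_le (Set.subset_univ _) _ (Set.toFinite _)
        rw [Set.ncard_univ, ← Nat.card_coe_set_eq, h3]
      have : ω ∈ fixedBy Ω g := by rw [h6]; exact Set.mem_univ ω
      exact this

theorem derange_invol_main {G Ω : Type*} [Group G] [Finite G] [MulAction G Ω]
    [FaithfulSMul G Ω] [Finite Ω]
    (htrans : IsPretransitive G Ω) (hinv : ∀ g : G, (∀ ω : Ω, g • ω ≠ ω) → orderOf g = 2) :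
    ((∀ a b : G, a * b = b * a) ∧ ∀ g : G, g ^ 2 = 1) ∨
    (∃ H : Subgroup G, (H ≠ ⊥ ∧ H ≠ ⊤ ∧ ∀ g : G, g ∉ H → H ⊓ (MulAut.conj g • H) = ⊥) ∧
      (∀ x : G, (x = 1 ∨ ∀ g : G, x ∉ MulAut.conj g • H) → x ^ 2 = 1) ∧
      ∀ x : G, (x = 1 ∨ ∀ g : G, x ∉ MulAut.conj g • H) →
        ∀ y : G, (y = 1 ∨ ∀ g : G, y ∉ MulAut.conj g • H) → x * y = y * x) := by
  classical
  have hne : Nonempty Ω := by
    by_contra hcon
    rw [not_nonempty_iff] at hcon
    have := hinv 1 (fun ω => isEmptyElim ω)
    rw [orderOf_one] at this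
    omega
  have hinv' : ∀ g : G, (∀ ω : Ω, g • ω ≠ ω) → g * g = 1 := by
    intro g hg
    have := hinv g hg
    rw [← pow_two, ← this]
    exact pow_orderOf_eq_one g
  have hfix := derange_invol_fix_le_one htrans hinv'
  have hfix2 : ∀ g : G, g ≠ 1 → ∀ α β : Ω, g • α = α → g • β = β → α = β := by
    intro g hg α β hα hβ
    have h1 := hfix g hg
    have : Subsingleton (fixedBy Ω g) := (Finite.card_le_one_iff_subsingleton).mp h1
    have := Subsingleton.elim (⟨α, hα⟩ : fixedBy Ω g) ⟨β, hβ⟩
    exact congrArg Subtype.val this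
  obtain ⟨ω₀⟩ := hne
  -- derangement characterisation of kernel elements
  have hker : ∀ x : G, x ≠ 1 → (∀ g : G, x ∉ MulAut.conj g • stabilizer G ω₀) →
      ∀ ω : Ω, x • ω ≠ ω := by
    intro x _ hx ω hω
    obtain ⟨g, rfl⟩ := MulAction.exists_smul_eq G ω₀ ω
    apply hx g
    rw [Subgroup.mem_pointwise_smul_iff_inv_smul_mem]
    rw [mem_stabilizer_iff]
    show (MulAut.conj g)⁻¹ x • ω₀ = ω₀
    rw [← map_inv, MulAut.conj_apply, mul_smul, mul_smul, inv_inv, hω, inv_smul_smul]
  by_cases hH : stabilizer G ω₀ = ⊥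
  · left
    have hsq : ∀ g : G, g ^ 2 = 1 := by
      intro g
      by_cases hg1 : g = 1
      · rw [hg1, one_pow]
      · rw [pow_two]
        apply hinv'
        intro ω hω
        obtain ⟨x, rfl⟩ := MulAction.exists_smul_eq G ω₀ ω
        have : x⁻¹ * g * x ∈ stabilizer G ω₀ := by
          rw [mem_stabilizer_iff, mul_smul, mul_smul, hω, inv_smul_smul]
        rw [hH, Subgroup.mem_bot] at this
        apply hg1
        calc g = x * (x⁻¹ * g * x) * x⁻¹ := by group
          _ = 1 := by rw [this]; group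
    refine ⟨fun a b => ?_, hsq⟩
    have h1 := hsq a
    have h2 := hsq b
    have h3 := hsq (a * b)
    rw [pow_two] at h1 h2 h3
    have ha : a⁻¹ = a := inv_eq_of_mul_eq_one_left h1
    have hb : b⁻¹ = b := inv_eq_of_mul_eq_one_left h2
    have hab : (a * b)⁻¹ = a * b := inv_eq_of_mul_eq_one_left h3
    rw [mul_inv_rev, ha, hb] at hab
    exact hab.symm
  · right
    refine ⟨stabilizer G ω₀, ⟨hH, ?_, ?_⟩, ?_, ?_⟩
    · intro htop
      obtain ⟨h, hh1⟩ := (Subgroup.ne_bot_iff_exists_ne_one).mp hH
      apply hh1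
      apply Subtype.ext
      apply FaithfulSMul.eq_of_smul_eq_smul (α := Ω)
      intro ω
      obtain ⟨x, rfl⟩ := MulAction.exists_smul_eq G ω₀ ω
      have hx : x ∈ stabilizer G ω₀ := by rw [htop]; exact Subgroup.mem_top x
      rw [mem_stabilizer_iff] at hx
      rw [hx, Subgroup.coe_one, one_smul]
      exact h.2
    · intro g hg
      rw [Subgroup.eq_bot_iff_forall]
      intro x hx
      by_contra hx1
      have h1 : x • ω₀ = ω₀ := hx.1
      have h2 : x • (g • ω₀) = g • ω₀ := by
        have : x ∈ MulAut.conj g • stabilizer G ω₀ := hx.2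
        rw [Subgroup.mem_pointwise_smul_iff_inv_smul_mem, mem_stabilizer_iff] at this
        have h3 : (MulAut.conj g)⁻¹ x • ω₀ = ω₀ := this
        rw [← map_inv, MulAut.conj_apply, mul_smul, mul_smul, inv_inv] at h3
        have := congrArg (fun y => g • y) h3
        simpa using this
      have := hfix2 x hx1 _ _ h1 h2
      exact hg this.symm
    · intro x hx
      rcases hx with rfl | hx
      · exact one_pow 2
      · by_cases hx1 : x = 1
        · rw [hx1, one_pow]
        · rw [pow_two]; exact hinv' x (hker x hx1 hx)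
    · intro x hx y hy
      by_cases hx1 : x = 1
      · rw [hx1, one_mul, mul_one]
      by_cases hy1 : y = 1
      · rw [hy1, one_mul, mul_one]
      have hxd := hker x hx1 (hx.resolve_left hx1)
      have hyd := hker y hy1 (hy.resolve_left hy1)
      have hxx := hinv' x hxd
      have hyy := hinv' y hyd
      have hxi : x⁻¹ = x := inv_eq_of_mul_eq_one_left hxx
      have hyi : y⁻¹ = y := inv_eq_of_mul_eq_one_left hyy
      by_cases hr : ∀ ω : Ω, (x * y) • ω ≠ ω
      · have h3 := hinv' _ hr
        calc x * y = (x * y * (x * y)) * y⁻¹ * x⁻¹ := by group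
          _ = y * x := by rw [h3, hyi, hxi, one_mul]
      · push Not at hr
        obtain ⟨ω, hω⟩ := hr
        by_cases hr1 : x * y = 1
        · have : x = y := by
            calc x = x * y * y⁻¹ := by group
              _ = y := by rw [hr1, one_mul, hyi]
          rw [this]
        · exfalso
          -- (x*y)⁻¹ = y * x fixes ω and x • ω
          have h4 : (y * x) • ω = ω := by
            have : (x * y)⁻¹ • ω = ω := by rw [inv_smul_eq_iff, hω]
            rwa [mul_inv_rev, hyi, hxi] at this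
          have h5 : (y * x) • (x • ω) = x • ω := by
            rw [← mul_smul, mul_assoc, hxx, mul_one]
            have : (x * y) • ω = ω := hω
            calc y • ω = x • (x • (y • ω)) := by rw [← mul_smul, hxx, one_smul]
              _ = x • ((x * y) • ω) := by rw [mul_smul]
              _ = x • ω := by rw [this]
          have hne1 : y * x ≠ 1 := by
            intro h
            apply hr1
            calc x * y = x * (y * x) * x⁻¹ := by group
              _ = 1 := by rw [h]; group
          have := hfix2 (y * x) hne1 _ _ h4 h5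
          exact hxd ω this.symm

end Cfsg.Agent.Lib.Helper59
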